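import Groth.Agent.HyperP1.Residue
import Groth.Agent.H23.RatExtend
import Groth.Agent.ZetaCurve.Divisor
import Groth.Agent.PnCoh.Chow.Proper
import Groth.Agent.CurveEmbed.Points
import Mathlib.AlgebraicGeometry.ZariskisMainTheorem
import Mathlib.RingTheory.AlgebraicIndependent.Transcendental

/-!
Morphisms of a smooth proper curve to the projective line and elements of the function field.
-/

noncomputable section

set_option autoImplicit false
set_option linter.style.haveILetI false
set_option linter.unusedSectionVars false
set_option backward.isDefEq.respectTransparency false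
set_option backward.isDefEq.respectTransparency.types false

universe u

open CategoryTheory CategoryTheory.Limits AlgebraicGeometry TopologicalSpace
open scoped IntermediateField
open Groth.Agent.ZetaLib
open HomogeneousLocalization (Away)

namespace Groth.Agent.HyperP1

variable (k : Type u) [Field k]

local notation "𝒜" => CohB1.polyGrading 1 k
local notation "T" => (MvPolynomial.X : Fin (1 + 1) → MvPolynomial (Fin (1 + 1)) k)

variable {X : Scheme.{u}} [X.Over (Spec (CommRingCat.of k))] [IsIntegral X]

attribute [local instance] ZetaCurve.ffAlg H23.PnChart.isIntegral_projSpace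

/-- The constants at the generic point. -/
theorem fromSpecStalk_over :
    X.fromSpecStalk (genericPoint X) ≫ (X ↘ Spec (CommRingCat.of k)) =
      Spec.map (CommRingCat.ofHom (algebraMap k X.functionField)) := by
  set p := X ↘ (Spec (CommRingCat.of k)) with hp'
  have hp : p = X.toSpecΓ ≫ Spec.map ((Scheme.ΓSpecIso (CommRingCat.of k)).inv ≫ p.appTop) := by
    rw [Spec.map_comp, ← Scheme.toSpecΓ_naturality_assoc, toSpecΓ_SpecMap_ΓSpecIso_inv, Category.comp_id]
  conv_lhs => rw [hp, Scheme.fromSpecStalk_toSpecΓ_assoc, ← Spec.map_comp]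
  rfl

theorem adjoin_eq_closure {i j : Fin (1 + 1)} (hij : j ≠ i) (a : Away 𝒜 (T i) →+* X.functionField)
    (ha : a.comp (base 1 k i) = algebraMap k X.functionField) (hai : a (coord 1 k i i) = 1) :
    (k⟮a (coord 1 k i j)⟯).toSubfield = Subfield.closure (Set.range a) := by
  refine le_antisymm ?_ ?_
  · rw [IntermediateField.adjoin_toSubfield, Subfield.closure_le]
    rintro z (⟨c, rfl⟩ | rfl)
    · exact Subfield.subset_closure ⟨base 1 k i c, congr($ha c)⟩
    · exact Subfield.subset_closure ⟨_, rfl⟩
  · rw [Subfield.closure_le]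
    rintro _ ⟨z, rfl⟩
    obtain ⟨p, rfl⟩ := surjective_dehom 1 k i z
    show a (dehom 1 k i p) ∈ k⟮a (coord 1 k i j)⟯
    induction p using MvPolynomial.induction_on with
    | C c =>
      rw [dehom, MvPolynomial.eval₂Hom_C, show a (base 1 k i c) = algebraMap k X.functionField c from congr($ha c)]
      exact IntermediateField.algebraMap_mem _ c
    | add p q hp hq => rw [map_add, map_add]; exact add_mem hp hq
    | mul_X p l hp =>
      rw [map_mul, map_mul]
      refine mul_mem hp ?_
      rw [dehom, MvPolynomial.eval₂Hom_X']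
      rcases eq_or_ne l i with rfl | hl
      · rw [hai]; exact one_mem _
      · obtain rfl : l = j := by
          apply Fin.ext
          have := Fin.val_ne_of_ne hl
          have := Fin.val_ne_of_ne hij
          omega
        exact IntermediateField.mem_adjoin_simple_self k _

/-- A morphism to the line over `k` is given at the generic point by a coordinate. -/
theorem exists_coord (f : X ⟶ CohB1.ProjSpace 1 k)
    (hf : f ≫ CohB1.ProjSpace.toSpec 1 k = X ↘ Spec (CommRingCat.of k)) :
    ∃ x : X.functionField, f.residueDegree (genericPoint X) = Module.finrank k⟮x⟯ X.functionField ∧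
      ((letI := (f.residueFieldMap (genericPoint X)).hom.toAlgebra
        Algebra.IsSeparable ((CohB1.ProjSpace 1 k).residueField (f (genericPoint X)))
          (X.residueField (genericPoint X))) ↔ Algebra.IsSeparable k⟮x⟯ X.functionField) := by
  obtain ⟨i, hi⟩ := exists_mem_chart (n := 1) (k := k) (f (genericPoint X))
  have hsub : Set.range (X.fromSpecStalk (genericPoint X) ≫ f) ⊆ Set.range (chart 1 k i) := by
    haveI : Subsingleton (Spec (X.presheaf.stalk (genericPoint X))) :=
      inferInstanceAs (Subsingleton (PrimeSpectrum X.functionField))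
    rintro _ ⟨p, rfl⟩
    rw [Scheme.Hom.comp_apply,
      Subsingleton.elim p (IsLocalRing.closedPoint (X.presheaf.stalk (genericPoint X))),
      Scheme.fromSpecStalk_closedPoint]
    exact hi
  let a := Spec.preimage (IsOpenImmersion.lift (chart 1 k i) _ hsub)
  have h : X.fromSpecStalk (genericPoint X) ≫ f = Spec.map a ≫ chart 1 k i := by
    rw [Spec.map_preimage, IsOpenImmersion.lift_fac]
  have hb : a.hom.comp (base 1 k i) = algebraMap k X.functionField := by
    have h1 : CommRingCat.ofHom (base 1 k i) ≫ a =
        CommRingCat.ofHom (algebraMap k X.functionField) := Spec.map_injective (by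
      rw [Spec.map_comp, ← chart_toSpec, ← Category.assoc, ← h, Category.assoc, hf, fromSpecStalk_over])
    exact congrArg CommRingCat.Hom.hom h1
  have hai : a.hom (coord 1 k i i) = 1 := by rw [H23.PnChart.coord_self, map_one]
  obtain ⟨j, hij⟩ : ∃ j : Fin (1 + 1), j ≠ i := exists_ne i
  exact ⟨_, residue_generic f (chart 1 k i) a h _ (adjoin_eq_closure k hij a.hom hb hai)⟩

variable [IsProper (X ↘ Spec (CommRingCat.of k))] [Smooth (X ↘ Spec (CommRingCat.of k))]

include k in
theorem valuationRing_stalk (hdim : topologicalKrullDim X = 1) (z : X) :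
    ValuationRing (X.presheaf.stalk z) := by
  rcases ZetaCurve.eq_or_isClosed k X hdim z with rfl | hz
  · show ValuationRing X.functionField
    infer_instance
  · haveI := ZetaCurve.isDVR k X hdim hz
    infer_instance

/-- A function defines a morphism to the projective line. -/
theorem exists_map (hdim : topologicalKrullDim X = 1) (x : X.functionField) :
    ∃ f : X ⟶ CohB1.ProjSpace 1 k, f ≫ CohB1.ProjSpace.toSpec 1 k = X ↘ Spec (CommRingCat.of k) ∧
      X.fromSpecStalk (genericPoint X) ≫ f = pointAt (K := X.functionField) 0 ![1, x] rfl := by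
  haveI : IsProper (CohB1.ProjSpace.toSpec 1 k) := PnCoh.Chow.isProper_toSpec 1 k
  haveI : (CohB1.ProjSpace 1 k).IsSeparated :=
    ⟨by rw [← Limits.terminal.comp_from (CohB1.ProjSpace.toSpec 1 k)]; infer_instance⟩
  have h₀ : pointAt (k := k) (K := X.functionField) 0 ![1, x] rfl ≫ CohB1.ProjSpace.toSpec 1 k =
      X.fromSpecStalk (genericPoint X) ≫ (X ↘ Spec (CommRingCat.of k)) := by
    rw [pointAt, Category.assoc, chart_toSpec, fromSpecStalk_over, ← Spec.map_comp, ← CommRingCat.ofHom_comp,
      evalAt_base]
  obtain ⟨W, hW, H, hsub, hH, hH'⟩ := H23.RatExtend.extend (X ↘ Spec (CommRingCat.of k))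
    (CohB1.ProjSpace.toSpec 1 k) _ h₀ Set.univ
    fun p _ => H23.RatExtend.exists_lift _ _ _ h₀ p (valuationRing_stalk k hdim p)
  haveI : IsIso W.ι := by
    have : Surjective W.ι := ⟨fun y => ⟨⟨y, hsub trivial⟩, rfl⟩⟩
    exact (isIso_iff_isOpenImmersion_and_surjective _).2 ⟨inferInstance, this⟩
  refine ⟨inv W.ι ≫ H, by rw [Category.assoc, hH, IsIso.inv_hom_id_assoc], ?_⟩
  rw [← hH', ← Scheme.Opens.fromSpecStalkOfMem_ι W (genericPoint X) hW, Category.assoc,
    IsIso.hom_inv_id_assoc]

theorem evalAt_injective {x : X.functionField} (hx : Transcendental k x) :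
    Function.Injective (evalAt (k := k) (K := X.functionField) (0 : Fin (1 + 1)) ![1, x] rfl) := by
  have : Unique (H23.PnChart.Idx.{u} 1 (0 : Fin (1 + 1))) :=
    { default := ⟨⟨1, by decide⟩⟩
      uniq := fun ⟨⟨j, hj⟩⟩ => by
        congr; apply Fin.ext; have := Fin.val_ne_of_ne hj; simp at this ⊢; omega }
  have h : Function.Injective
      ((evalAt (k := k) (K := X.functionField) (0 : Fin (1 + 1)) ![1, x] rfl).comp (H23.PnChart.fromChart.{u,u} 1 k 0)) := by
    have hi : AlgebraicIndependent k (fun _ : H23.PnChart.Idx.{u} 1 (0 : Fin (1 + 1)) => x) :=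
      algebraicIndependent_unique_type_iff.2 hx
    suffices he : (evalAt (k := k) (K := X.functionField) (0 : Fin (1 + 1)) ![1, x] rfl).comp
        (H23.PnChart.fromChart.{u,u} 1 k 0) =
        (MvPolynomial.aeval (fun _ : H23.PnChart.Idx.{u} 1 (0 : Fin (1 + 1)) => x)).toRingHom by
      rw [he]; exact hi
    refine MvPolynomial.ringHom_ext ?_ ?_
    · intro c
      simp only [RingHom.comp_apply, H23.PnChart.fromChart, MvPolynomial.eval₂Hom_C, AlgHom.toRingHom_eq_coe,
        RingHom.coe_coe, MvPolynomial.aeval_C]
      exact congr($(evalAt_base (k := k) (K := X.functionField) (0 : Fin (1 + 1)) ![1, x] rfl) c)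
    · intro j
      simp only [RingHom.comp_apply, H23.PnChart.fromChart, MvPolynomial.eval₂Hom_X', AlgHom.toRingHom_eq_coe,
        RingHom.coe_coe, MvPolynomial.aeval_X, evalAt_coord]
      have : j.down.1 = 1 := by
        apply Fin.ext; have := Fin.val_ne_of_ne j.down.2; simp at this ⊢; omega
      rw [this]; rfl
  intro a b hab
  obtain ⟨a, rfl⟩ := H23.PnChart.fromChart_surjective 1 k 0 a
  obtain ⟨b, rfl⟩ := H23.PnChart.fromChart_surjective 1 k 0 b
  exact congrArg _ (h hab)

/-- A map given by a transcendental function is finite, and its generic residue field is `k(x)`. -/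
theorem map_props (hdim : topologicalKrullDim X = 1) {x : X.functionField} (hx : Transcendental k x)
    (f : X ⟶ CohB1.ProjSpace 1 k) (hf : f ≫ CohB1.ProjSpace.toSpec 1 k = X ↘ Spec (CommRingCat.of k))
    (hgen : X.fromSpecStalk (genericPoint X) ≫ f = pointAt (K := X.functionField) 0 ![1, x] rfl) :
    IsFinite f ∧ f (genericPoint X) = genericPoint (CohB1.ProjSpace 1 k) ∧
      f.residueDegree (genericPoint X) = Module.finrank k⟮x⟯ X.functionField ∧
      ((letI := (f.residueFieldMap (genericPoint X)).hom.toAlgebra
        Algebra.IsSeparable ((CohB1.ProjSpace 1 k).residueField (f (genericPoint X)))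
          (X.residueField (genericPoint X))) ↔ Algebra.IsSeparable k⟮x⟯ X.functionField) := by
  haveI : IsProper (CohB1.ProjSpace.toSpec 1 k) := PnCoh.Chow.isProper_toSpec 1 k
  haveI := H23.PnChart.isIntegral_projSpace 1 k
  haveI : IsProper f := by
    haveI : IsProper (f ≫ CohB1.ProjSpace.toSpec 1 k) := hf ▸ inferInstance
    exact IsProper.of_comp f (CohB1.ProjSpace.toSpec 1 k)
  let a := evalAt (k := k) (K := X.functionField) (0 : Fin (1 + 1)) ![1, x] rfl
  have hη : f (genericPoint X) = genericPoint (CohB1.ProjSpace 1 k) := by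
    haveI : IsDomain (Away 𝒜 (T 0)) := (evalAt_injective k hx).isDomain _
    rw [← genericPoint_eq_of_isOpenImmersion (chart 1 k (0 : Fin (1 + 1))), genericPoint_eq_bot_of_affine]
    calc f (genericPoint X) = (X.fromSpecStalk (genericPoint X) ≫ f) (IsLocalRing.closedPoint _) := by
          rw [Scheme.Hom.comp_apply, Scheme.fromSpecStalk_closedPoint]
      _ = chart 1 k 0 (Spec.map (CommRingCat.ofHom a) (IsLocalRing.closedPoint X.functionField)) := by
          rw [hgen]; rfl
      _ = _ := by
          congr 1
          apply PrimeSpectrum.ext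
          show (IsLocalRing.maximalIdeal X.functionField).comap a = _
          rw [IsLocalRing.maximalIdeal_eq_bot, ← RingHom.ker_eq_comap_bot,
            (RingHom.injective_iff_ker_eq_bot a).1 (evalAt_injective k hx)]
          rfl
  have hres := residue_generic f (chart 1 k 0) (CommRingCat.ofHom a) hgen k⟮x⟯ (by
    have h := adjoin_eq_closure k (i := 0) (j := 1) (by decide) a (evalAt_base _ _ _) (evalAt_coord _ _ _ _)
    rw [evalAt_coord] at h
    exact h)
  refine ⟨?_, hη, hres⟩
  have hclosed : ¬ IsClosed ({genericPoint (CohB1.ProjSpace 1 k)} : Set (CohB1.ProjSpace 1 k)) := by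
    intro h
    have huniv : ∀ p, p = genericPoint (CohB1.ProjSpace 1 k) := fun p =>
      (genericPoint_specializes p).mem_closed h rfl
    have h1 : pointAt (k := k) (K := X.functionField) (0 : Fin (1 + 1)) ![1, x] rfl (IsLocalRing.closedPoint _) ∈
        Set.range (chart 1 k 1) := (pointAt_mem_iff _ _ _ 1).2 (fun h => hx (by have h0 : x = 0 := h; rw [h0]; exact isAlgebraic_zero))
    have h2 := (pointAt_mem_iff (k := k) (K := k) (0 : Fin (1 + 1)) ![1, 0] rfl 1).not.2 (by simp)
    rw [huniv (pointAt (k := k) (K := X.functionField) _ _ _ _)] at h1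
    rw [huniv (pointAt (k := k) (K := k) _ _ _ _)] at h2
    exact h2 h1
  haveI : LocallyQuasiFinite f := by
    refine LocallyQuasiFinite.of_finite_preimage_singleton f fun y => ?_
    by_cases hy : y = genericPoint (CohB1.ProjSpace 1 k)
    · refine (Set.finite_singleton (genericPoint X)).subset fun z hz => ?_
      rcases ZetaCurve.eq_or_isClosed k X hdim z with h | h
      · exact h
      · refine (hclosed ?_).elim
        have hh := f.isClosedMap _ h
        rw [Set.image_singleton, show f z = y from hz, hy] at hh
        exact hh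
    · let U : X.Opens := ⟨(f ⁻¹' closure {y})ᶜ, (isClosed_closure.preimage f.continuous).isOpen_compl⟩
      have hU : genericPoint X ∈ U := fun hc => hy (by
        have hs : y ⤳ genericPoint (CohB1.ProjSpace 1 k) := hη ▸ specializes_iff_mem_closure.2 hc
        exact hs.antisymm (genericPoint_specializes y) |>.eq)
      refine ((ZetaCurve.finite_not_mem k X hdim hU).image Subtype.val).subset fun z hz => ?_
      rcases ZetaCurve.eq_or_isClosed k X hdim z with h | h
      · refine (hy ?_).elim
        rw [← show f z = y from hz, h, hη]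
      · exact ⟨⟨z, h⟩, fun hzU => hzU (subset_closure hz), rfl⟩
  exact IsFinite.of_isProper_of_locallyQuasiFinite f

/-- Morphisms of degree `2` to the line with separable function field extension from functions. -/
theorem exists_doubleCover (hdim : topologicalKrullDim X = 1) {x : X.functionField}
    (hx : Transcendental k x) (hd : Module.finrank k⟮x⟯ X.functionField = 2)
    (hs : Algebra.IsSeparable k⟮x⟯ X.functionField) :
    ∃ f : X ⟶ CohB1.ProjSpace 1 k, f ≫ CohB1.ProjSpace.toSpec 1 k = X ↘ Spec (CommRingCat.of k) ∧
      IsFinite f ∧ f.residueDegree (genericPoint X) = 2 ∧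
      letI := (f.residueFieldMap (genericPoint X)).hom.toAlgebra
      Algebra.IsSeparable ((CohB1.ProjSpace 1 k).residueField (f (genericPoint X)))
        (X.residueField (genericPoint X)) := by
  obtain ⟨f, hf, hgen⟩ := exists_map k hdim x
  obtain ⟨hfin, -, hdeg, hsep⟩ := map_props k hdim hx f hf hgen
  exact ⟨f, hf, hfin, hdeg.trans hd, hsep.2 hs⟩

end Groth.Agent.HyperP1
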