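import Groth.Agent.HyperP1.FieldDeg2
import Mathlib.RingTheory.MvPolynomial.Basic
import Mathlib.RingTheory.Ideal.Quotient.Operations

/-!
The ring of functions regular away from the poles of a degree two function is `k[t] ⊕ k[t] y`.
-/

noncomputable section

namespace Groth.Agent.HyperP1

open FunFld IntermediateField Polynomial WithZero
open scoped IntermediateField

universe u v

variable {k : Type u} {K : Type v} [Field k] [Field K] [Algebra k K]

/-- A function with no pole outside those of `t` is polynomial in `t` and `y`. -/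
theorem exists_pair_of_regular (hK : IsFunctionField k K) {g : ℕ} (hg : genus k K = g) {t y : K}
    (hd : Module.finrank k⟮t⟯ K = 2) (hyt : y ∉ k⟮t⟯)
    (hy : y ∈ L (((g + 1 : ℕ) : ℤ) • (FFLib.poles t : Divisor k K))) {z : K}
    (hz : ∀ P : Place k K, P.1 t ≤ 1 → P.1 z ≤ 1) :
    ∃ p q : k[X], z = aeval t p + aeval t q * y := by
  classical
  have hF := hK.1
  have ht := transcendental_of_finrank hK (x := t) (by omega)
  have ht0 : t ≠ 0 := fun h => ht (h ▸ isAlgebraic_zero)
  obtain ⟨m, hm, hzm⟩ : ∃ m : ℕ, g + 1 ≤ m ∧ z ∈ L ((m : ℤ) • (FFLib.poles t : Divisor k K)) := by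
    let S := (FFLib.finite_support_ord hF z).toFinset
    let M : ℕ := ∑ P ∈ S, (P.ord z).natAbs
    refine ⟨M + g + 1, by omega, ?_⟩
    rcases eq_or_ne z 0 with rfl | hz0
    · exact Submodule.zero_mem _
    rw [FFLib.mem_L_iff_ord hz0]
    intro P
    simp only [Finsupp.smul_apply, smul_eq_mul]
    rcases le_or_gt (P.1 t) 1 with htP | htP
    · have h1 := (FFLib.val_le_one_iff P hz0).1 (hz P htP)
      have h2 : (0 : ℤ) ≤ (FFLib.poles t : Divisor k K) P := FFLib.poles_nonneg t P
      have h3 : (0 : ℤ) ≤ ((M + g + 1 : ℕ) : ℤ) * (FFLib.poles t : Divisor k K) P :=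
        mul_nonneg (Int.natCast_nonneg _) h2
      omega
    · have h1 := (FFLib.one_lt_val_iff P ht0).1 htP
      have h2 : (FFLib.poles t : Divisor k K) P = -P.ord t := by
        simp [FFLib.poles, FFLib.div_apply hF]
        omega
      have h3 : ((M + g + 1 : ℕ) : ℤ) ≤ ((M + g + 1 : ℕ) : ℤ) * (FFLib.poles t : Divisor k K) P := by
        rw [h2]; exact le_mul_of_one_le_right (Int.natCast_nonneg _) (by omega)
      rcases eq_or_ne (P.ord z) 0 with h0 | h0
      · omega
      have h4 : (P.ord z).natAbs ≤ M :=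
        Finset.single_le_sum (f := fun Q : Place k K => (Q.ord z).natAbs) (fun _ _ => Nat.zero_le _)
          ((Set.Finite.mem_toFinset _).2 h0)
      omega
  haveI := fun D : Divisor k K => FFLib.L_finite hF D
  have hfam := fam_mem (t := t) hF hy (a := m + 1) (b := m - g) (m := m) le_rfl (by omega)
  have hle : Submodule.span k (Set.range (fam t y (m + 1) (m - g))) ≤
      L ((m : ℤ) • (FFLib.poles t : Divisor k K)) :=
    Submodule.span_le.2 (Set.range_subset_iff.2 hfam)
  have hdeg : ((m : ℤ) • (FFLib.poles t : Divisor k K)).deg = m * 2 := by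
    rw [deg_nsmul, FFLib.deg_poles hF ht, hd]; norm_num
  have hell := FFLib.ell_of_deg_gt hK (D := (m : ℤ) • (FFLib.poles t : Divisor k K)) (by rw [hdeg, hg]; omega)
  rw [hdeg, hg] at hell
  have heq := Submodule.eq_of_le_of_finrank_le hle (by
    rw [finrank_span_eq_card (linearIndependent_fam ht hyt _ _)]
    unfold ell at hell
    simp only [Fintype.card_sum, Fintype.card_fin]
    omega)
  rw [← heq] at hzm
  obtain ⟨c, hc⟩ := (Submodule.mem_span_range_iff_exists_fun k).1 hzm
  refine ⟨∑ i : Fin (m + 1), monomial (i : ℕ) (c (.inl i)),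
    ∑ j : Fin (m - g), monomial (j : ℕ) (c (.inr j)), ?_⟩
  rw [← hc, Fintype.sum_sum_type, map_sum, map_sum, Finset.sum_mul]
  congr 1 <;> refine Finset.sum_congr rfl fun i _ => ?_ <;>
    simp [fam, aeval_monomial, Algebra.smul_def, mul_assoc]

theorem val_le_one_of_mem_L (hK : IsFunctionField k K) {t y : K} {n : ℕ}
    (hy : y ∈ L ((n : ℤ) • (FFLib.poles t : Divisor k K))) (P : Place k K) (ht : P.1 t ≤ 1) : P.1 y ≤ 1 := by
  have hp : (FFLib.poles t : Divisor k K) P = 0 := by
    rcases eq_or_ne t 0 with rfl | ht0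
    · simp [FFLib.poles, FFLib.div_apply hK.1, Place.ord]
    have := (FFLib.val_le_one_iff P ht0).1 ht
    simp [FFLib.poles, FFLib.div_apply hK.1]
    omega
  have := hy P
  rwa [Finsupp.smul_apply, hp, smul_zero, exp_zero] at this

section Presentation

variable (t y : K) (p q : k[X])

/-- Evaluation at `(t, y)`. -/
def evalPair : MvPolynomial (Fin 2) k →ₐ[k] K := MvPolynomial.aeval ![t, y]

/-- The relation `Y² + q(X) Y − p(X)`. -/
def rel : MvPolynomial (Fin 2) k :=
  MvPolynomial.X 1 ^ 2 + Polynomial.aeval (MvPolynomial.X 0) q * MvPolynomial.X 1 -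
    Polynomial.aeval (MvPolynomial.X 0) p

theorem evalPair_aeval (r : k[X]) :
    evalPair t y (Polynomial.aeval (MvPolynomial.X 0 : MvPolynomial (Fin 2) k) r) = aeval t r := by
  rw [← Polynomial.aeval_algHom_apply]
  simp [evalPair]

theorem exists_normal (F : MvPolynomial (Fin 2) k) :
    ∃ a b : k[X], F - (Polynomial.aeval (MvPolynomial.X 0) a +
      Polynomial.aeval (MvPolynomial.X 0) b * MvPolynomial.X 1) ∈ Ideal.span {rel p q} := by
  induction F using MvPolynomial.induction_on with
  | C c => exact ⟨Polynomial.C c, 0, by simp [MvPolynomial.algebraMap_eq]⟩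
  | add F G hF hG =>
    obtain ⟨a, b, hF⟩ := hF
    obtain ⟨a', b', hG⟩ := hG
    refine ⟨a + a', b + b', ?_⟩
    convert add_mem hF hG using 1
    rw [map_add, map_add]; ring
  | mul_X F i hF =>
    obtain ⟨a, b, hF⟩ := hF
    fin_cases i
    · refine ⟨a * Polynomial.X, b * Polynomial.X, ?_⟩
      convert Ideal.mul_mem_right (MvPolynomial.X 0) _ hF using 1
      rw [map_mul, map_mul, Polynomial.aeval_X]
      simp only [Fin.zero_eta]; ring
    · refine ⟨b * p, a - b * q, ?_⟩
      convert add_mem (Ideal.mul_mem_right (MvPolynomial.X 1) _ hF)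
        (Ideal.mul_mem_left _ (Polynomial.aeval (MvPolynomial.X 0) b) (Ideal.mem_span_singleton_self (rel p q))) using 1
      rw [rel, map_mul, map_sub, map_mul]
      simp only [Fin.mk_one]; ring

theorem ker_evalPair (ht : Transcendental k t) (hyt : y ∉ k⟮t⟯)
    (he : y ^ 2 + aeval t q * y = aeval t p) :
    RingHom.ker (evalPair t y).toRingHom = Ideal.span {rel p q} := by
  have hrel : evalPair t y (rel p q) = 0 := by
    simp only [rel, map_add, map_sub, map_mul, map_pow, evalPair_aeval]
    rw [show evalPair t y (MvPolynomial.X 1) = y by simp [evalPair], he, sub_self]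
  refine le_antisymm (fun F hF => ?_) ((Ideal.span_singleton_le_iff_mem _).2 hrel)
  obtain ⟨a, b, hab⟩ := exists_normal p q F
  have h0 : evalPair t y F = 0 := hF
  have h1 : evalPair t y (F - (Polynomial.aeval (MvPolynomial.X 0) a +
      Polynomial.aeval (MvPolynomial.X 0) b * MvPolynomial.X 1)) = 0 := by
    obtain ⟨c, hc⟩ := Ideal.mem_span_singleton'.1 hab
    rw [← hc, map_mul, hrel, mul_zero]
  rw [map_sub, h0, zero_sub, neg_eq_zero, map_add, map_mul, evalPair_aeval, evalPair_aeval,
    show evalPair t y (MvPolynomial.X 1) = y by simp [evalPair]] at h1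
  obtain ⟨rfl, rfl⟩ := eq_zero_of_mul_add ht hyt h1
  simpa using hab

theorem range_evalPair (hK : IsFunctionField k K) {g : ℕ} (hg : genus k K = g) {t y : K}
    (hd : Module.finrank k⟮t⟯ K = 2) (hyt : y ∉ k⟮t⟯)
    (hy : y ∈ L (((g + 1 : ℕ) : ℤ) • (FFLib.poles t : Divisor k K))) (z : K) :
    z ∈ (evalPair (k := k) t y).range ↔ ∀ P : Place k K, P.1 t ≤ 1 → P.1 z ≤ 1 := by
  constructor
  · rintro ⟨F, rfl⟩ P hP
    induction F using MvPolynomial.induction_on with
    | C c => simpa [evalPair] using P.2.1 c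
    | add F G hF hG => rw [map_add]; exact (P.1.map_add _ _).trans (max_le hF hG)
    | mul_X F i hF =>
      rw [map_mul, map_mul]
      refine mul_le_one' hF ?_
      fin_cases i
      · simpa [evalPair] using hP
      · simpa [evalPair] using val_le_one_of_mem_L hK hy P hP
  · intro hz
    obtain ⟨a, b, rfl⟩ := exists_pair_of_regular hK hg hd hyt hy hz
    refine ⟨Polynomial.aeval (MvPolynomial.X 0) a +
      Polynomial.aeval (MvPolynomial.X 0) b * MvPolynomial.X 1, ?_⟩
    show evalPair t y _ = _
    simp [evalPair_aeval]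
    simp [evalPair]

end Presentation

end Groth.Agent.HyperP1
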