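import Groth.Agent.HyperP1.DoubleCover
import Groth.Agent.HyperP1.AffineField
import Groth.Prelude.Def_LefPen

/-!
The preimage of the standard chart of the line under a double cover.
-/

noncomputable section

set_option autoImplicit false
set_option linter.style.haveILetI false
set_option linter.unusedSectionVars false
set_option backward.isDefEq.respectTransparency false
set_option backward.isDefEq.respectTransparency.types false

universe u

open CategoryTheory CategoryTheory.Limits AlgebraicGeometry TopologicalSpace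
open scoped IntermediateField
open Groth.Agent.ZetaLib
open Groth.Agent.CurveCohLib.Polar (InR gη)
open HomogeneousLocalization (Away)

namespace Groth.Agent.HyperP1

variable (k : Type u) [Field k] {X : Scheme.{u}} [X.Over (Spec (CommRingCat.of k))] [IsIntegral X]
  [IsProper (X ↘ Spec (CommRingCat.of k))] [Smooth (X ↘ Spec (CommRingCat.of k))]
  (hdim : topologicalKrullDim X = 1)
  (f : X ⟶ CohB1.ProjSpace 1 k) (hf : f ≫ CohB1.ProjSpace.toSpec 1 k = X ↘ Spec (CommRingCat.of k))

local notation "𝒜" => CohB1.polyGrading 1 k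
local notation "T" => (MvPolynomial.X : Fin (1 + 1) → MvPolynomial (Fin (1 + 1)) k)

attribute [local instance] ZetaCurve.ffAlg H23.PnChart.isIntegral_projSpace

theorem opensRange_chart (i : Fin (1 + 1)) :
    (ZetaLib.chart 1 k i).opensRange = LefPen.chart 1 k i :=
  Proj.opensRange_awayι 𝒜 (T i) (X_mem_one 1 k i) Nat.one_pos

include hdim in
/-- A finite flat map of constant rank two preserves generic points. -/
theorem map_generic [IsFinite f] (hs : Function.Surjective f) :
    f (genericPoint X) = genericPoint (CohB1.ProjSpace 1 k) := by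
  haveI : IsProper ((CohB1.ProjSpace 1 k) ↘ Spec (CommRingCat.of k)) := PnCoh.Chow.isProper_toSpec 1 k
  obtain ⟨z, hz⟩ := hs (genericPoint (CohB1.ProjSpace 1 k))
  rcases ZetaCurve.eq_or_isClosed k X hdim z with h | h
  · exact h ▸ hz
  · exfalso
    have hh := f.isClosedMap _ h
    rw [Set.image_singleton, hz] at hh
    exact CurveEmbed.genericPoint_not_closed (P1Split.dim_eq k) hh

variable (e : f (genericPoint X) = genericPoint (CohB1.ProjSpace 1 k))

include hdim hf e in
/-- The coordinate and the ring of functions over the chart. -/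
theorem exists_chart_coord [IsFinite f] :
    ∃ (x : X.functionField) (hη : genericPoint X ∈ f ⁻¹ᵁ LefPen.chart 1 k 0),
      f.residueDegree (genericPoint X) = Module.finrank k⟮x⟯ X.functionField ∧
      ((letI := (f.residueFieldMap (genericPoint X)).hom.toAlgebra
        Algebra.IsSeparable ((CohB1.ProjSpace 1 k).residueField (f (genericPoint X)))
          (X.residueField (genericPoint X))) ↔ Algebra.IsSeparable k⟮x⟯ X.functionField) ∧
      ∀ c : X.functionField, c ∈ (X.presheaf.germ (f ⁻¹ᵁ LefPen.chart 1 k 0) _ hη).hom.range ↔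
        ∀ P : FunFld.Place k X.functionField, P.1 x ≤ 1 → P.1 c ≤ 1 := by
  let j := ZetaLib.chart 1 k (0 : Fin (1 + 1))
  have hξ : genericPoint (CohB1.ProjSpace 1 k) ∈ j.opensRange := by
    haveI : Nonempty (Spec (CommRingCat.of (Away 𝒜 (T 0)))) := by
      obtain ⟨p, -⟩ : ∃ p, p = IsLocalRing.closedPoint k := ⟨_, rfl⟩
      exact ⟨Spec.map (CommRingCat.ofHom (evalAt (k := k) (K := k) (0 : Fin (1 + 1)) ![1, 0] rfl)) p⟩
    exact H23.RatExtend.genericPoint_mem _ (x := j (Classical.arbitrary _)) ⟨_, rfl⟩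
  have hηU : genericPoint X ∈ f ⁻¹ᵁ LefPen.chart 1 k 0 := by
    show f (genericPoint X) ∈ LefPen.chart 1 k 0
    rw [← opensRange_chart, e]; exact hξ
  set U := f ⁻¹ᵁ LefPen.chart 1 k 0
  have hU : IsAffineOpen U := (opensRange_chart k 0 ▸ isAffineOpen_opensRange j).preimage f
  have hsub : Set.range (hU.fromSpec ≫ f) ⊆ Set.range j := by
    rintro _ ⟨p, rfl⟩
    have hp : hU.fromSpec p ∈ U := by
      have : hU.fromSpec p ∈ Set.range hU.fromSpec := ⟨p, rfl⟩
      rwa [hU.range_fromSpec] at this
    show f (hU.fromSpec p) ∈ (j.opensRange : Set _)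
    rw [opensRange_chart]
    exact hp
  let ψ := Spec.preimage (IsOpenImmersion.lift j _ hsub)
  let a : CommRingCat.of (Away 𝒜 (T 0)) ⟶ X.functionField := ψ ≫ X.presheaf.germ U _ hηU
  have ha : X.fromSpecStalk (genericPoint X) ≫ f = Spec.map a ≫ j := by
    rw [Spec.map_comp, Category.assoc, Spec.map_preimage, IsOpenImmersion.lift_fac, ← Category.assoc]
    congr 1
    rw [← hU.fromSpecStalk_eq_fromSpecStalk hηU]
    rfl
  have hb : a.hom.comp (base 1 k 0) = algebraMap k X.functionField := by
    have h1 : CommRingCat.ofHom (base 1 k 0) ≫ a =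
        CommRingCat.ofHom (algebraMap k X.functionField) := Spec.map_injective (by
      rw [Spec.map_comp, ← chart_toSpec, ← Category.assoc, ← ha, Category.assoc, hf, fromSpecStalk_over])
    exact congrArg CommRingCat.Hom.hom h1
  have hai : a.hom (coord 1 k 0 0) = 1 := by rw [H23.PnChart.coord_self, map_one]
  set x := a.hom (coord 1 k 0 1) with hxdef
  obtain ⟨hdeg, hsep⟩ := residue_generic f j a ha _ (adjoin_eq_closure k (j := 1) (by decide) a.hom hb hai)
  refine ⟨x, hηU, hdeg, hsep, fun c => ⟨?_, fun hc => ?_⟩⟩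
  · rintro ⟨s, rfl⟩ P hPx
    obtain ⟨z, rfl⟩ := (ZetaCurve.pl k X hdim).surjective P
    refine (ZetaCurve.valAt_le_one_iff k X hdim z _).2 ?_
    suffices hz : z.1 ∈ U by exact CurveCohLib.Polar.inR_gη hz s
    obtain ⟨m, hm⟩ := (ZetaCurve.valAt_le_one_iff k X hdim z x).1 hPx
    -- the coordinate map lands in the local ring at `z`
    let O := (algebraMap (X.presheaf.stalk z.1) X.functionField).range
    have hO : ∀ w, a.hom w ∈ O := by
      intro w
      obtain ⟨p, rfl⟩ := surjective_dehom 1 k 0 w
      induction p using MvPolynomial.induction_on with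
      | C c =>
        rw [dehom, MvPolynomial.eval₂Hom_C,
          show a.hom (base 1 k 0 c) = algebraMap k X.functionField c from congr($hb c)]
        exact ZetaCurve.inR_algebraMap k X z.1 c
      | add p q hp hq => rw [map_add, map_add]; exact add_mem hp hq
      | mul_X p l hp =>
        rw [map_mul, map_mul]
        refine mul_mem hp ?_
        rw [dehom, MvPolynomial.eval₂Hom_X']
        fin_cases l
        · show a.hom (coord 1 k 0 0) ∈ O
          rw [hai]; exact one_mem _
        · exact ⟨m, hm⟩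
    let α := (algebraMap (X.presheaf.stalk z.1) X.functionField).rangeRestrict
    have hαb : Function.Bijective α :=
      ⟨fun u v huv => IsFractionRing.injective (X.presheaf.stalk z.1) X.functionField (congrArg Subtype.val huv),
        RingHom.rangeRestrict_surjective _⟩
    let b : CommRingCat.of (Away 𝒜 (T 0)) ⟶ X.presheaf.stalk z.1 :=
      CommRingCat.ofHom ((RingEquiv.ofBijective α hαb).symm.toRingHom.comp (a.hom.codRestrict O hO))
    let sp := X.presheaf.stalkSpecializes (genericPoint_specializes z.1)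
    have hbs : b ≫ sp = a := CommRingCat.hom_ext (RingHom.ext fun w =>
      congrArg Subtype.val ((RingEquiv.ofBijective α hαb).apply_symm_apply ⟨a.hom w, hO w⟩))
    haveI : IsDominant (Spec.map sp) := by
      refine ⟨PrimeSpectrum.denseRange_comap_iff_ker_le_nilRadical _ |>.2 ?_⟩
      rw [(RingHom.injective_iff_ker_eq_bot sp.hom).1 (IsFractionRing.injective (X.presheaf.stalk z.1) X.functionField)]
      exact bot_le
    haveI : IsDomain (X.presheaf.stalk z.1) :=
      Function.Injective.isDomain _ (IsFractionRing.injective (X.presheaf.stalk z.1) X.functionField)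
    haveI : IsProper (CohB1.ProjSpace.toSpec 1 k) := PnCoh.Chow.isProper_toSpec 1 k
    haveI : (CohB1.ProjSpace 1 k).IsSeparated :=
      ⟨by rw [← Limits.terminal.comp_from (CohB1.ProjSpace.toSpec 1 k)]; infer_instance⟩
    have heq : Spec.map b ≫ j = X.fromSpecStalk z.1 ≫ f := by
      refine ext_of_isDominant (Spec.map sp) ?_
      rw [← Category.assoc, ← Spec.map_comp, hbs, ← Category.assoc,
        Scheme.SpecMap_stalkSpecializes_fromSpecStalk, ha]
    show f z.1 ∈ LefPen.chart 1 k 0
    rw [← opensRange_chart]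
    refine ⟨Spec.map b (IsLocalRing.closedPoint (X.presheaf.stalk z.1)), ?_⟩
    rw [← Scheme.Hom.comp_apply, heq, Scheme.Hom.comp_apply, Scheme.fromSpecStalk_closedPoint]
  · have hreg : ∀ z ∈ U, InR z c := by
      intro z hz
      rcases ZetaCurve.eq_or_isClosed k X hdim z with h | h
      · subst h; exact ⟨c, ZetaCurve.algebraMap_generic X c⟩
      · refine (ZetaCurve.valAt_le_one_iff k X hdim ⟨z, h⟩ c).1 (hc (ZetaCurve.pl k X hdim ⟨z, h⟩) ?_)
        exact (ZetaCurve.valAt_le_one_iff k X hdim ⟨z, h⟩ x).2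
          (CurveCohLib.Polar.inR_gη hz (ψ (coord 1 k 0 1)))
    obtain ⟨r, hr⟩ := CurveCohLib.Polar.exists_of_forall_inR hreg
    exact ⟨r, hr hηU⟩

include hdim hf e in
/-- The preimage of the chart is the plane curve `y² + q(x) y = p(x)`. -/
theorem exists_affine_equation [IsFinite f] (h0 : Module.finrank k (Coh.HH X (Coh.structureModule X) 0) = 1)
    {g : ℕ} (hg : Curv2.genus k X = g) (hg1 : 1 ≤ g) (hd : f.residueDegree (genericPoint X) = 2) :
    ∃ p q : Polynomial k, 2 * g + 1 ≤ max p.natDegree (2 * q.natDegree) ∧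
      max p.natDegree (2 * q.natDegree) ≤ 2 * g + 2 ∧
      ∃ e' : (↑(f ⁻¹ᵁ (LefPen.chart 1 k 0)) : Scheme.{u}) ≅
          Spec (CommRingCat.of (MvPolynomial (Fin 2) k ⧸ Ideal.span {rel p q})),
        e'.hom ≫ Spec.map (CommRingCat.ofHom ((Ideal.Quotient.mk (Ideal.span {rel p q})).comp
          (MvPolynomial.C : k →+* MvPolynomial (Fin 2) k))) =
          (f ⁻¹ᵁ (LefPen.chart 1 k 0)).ι ≫ (X ↘ Spec (CommRingCat.of k)) := by
  obtain ⟨t, hηU, hdeg, -, hR⟩ := exists_chart_coord k hdim f hf e
  have hK := ZetaCurve.isFunctionField k X hdim h0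
  have hgK : FunFld.genus k X.functionField = g := (ZetaCurve.genus_eq k X hdim h0).trans hg
  have hd' : Module.finrank k⟮t⟯ X.functionField = 2 := hdeg.symm.trans hd
  obtain ⟨y, P, Q, hyt, hy, he, hP, hQ⟩ := exists_equation hK hgK hg1 hd'
  refine ⟨P, Q, by rw [max_comm]; exact le_max_natDegree hK hgK hg1 hd' hyt hy he,
    max_le hP (by omega), ?_⟩
  set U := f ⁻¹ᵁ LefPen.chart 1 k 0 with hUdef
  have hU : IsAffineOpen U :=
    (opensRange_chart k 0 ▸ isAffineOpen_opensRange (ZetaLib.chart 1 k (0 : Fin (1 + 1)))).preimage f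
  haveI : Nonempty U := ⟨⟨_, hηU⟩⟩
  let γ : Γ(X, U) →+* X.functionField := (X.presheaf.germ U _ hηU).hom
  have hγ : Function.Bijective γ.rangeRestrict :=
    ⟨fun u v huv => germ_injective_of_isIntegral X _ hηU (congrArg Subtype.val huv),
      RingHom.rangeRestrict_surjective γ⟩
  let ev := (evalPair (k := k) t y).toRingHom
  have hrange : ev.range = γ.range := SetLike.ext fun c => by
    rw [hR c, ← range_evalPair hK hgK hd' hyt hy c]
    exact Iff.rfl
  have hker : Ideal.span {rel P Q} = RingHom.ker ev :=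
    (ker_evalPair t y P Q (transcendental_of_finrank hK (x := t) (by omega)) hyt he).symm
  let Ψ₀ : (MvPolynomial (Fin 2) k ⧸ Ideal.span {rel P Q}) ≃+* Γ(X, U) :=
    (Ideal.quotEquivOfEq hker).trans ((RingHom.quotientKerEquivRange ev).trans
      ((RingEquiv.subringCongr hrange).trans (RingEquiv.ofBijective γ.rangeRestrict hγ).symm))
  have hΨ : ∀ F, γ (Ψ₀ (Ideal.Quotient.mk _ F)) = ev F := fun F =>
    congrArg Subtype.val ((RingEquiv.ofBijective γ.rangeRestrict hγ).apply_symm_apply _)
  refine ⟨hU.isoSpec ≪≫ Scheme.Spec.mapIso Ψ₀.toCommRingCatIso.op, ?_⟩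
  let ρ := Spec.preimage (hU.fromSpec ≫ (X ↘ Spec (CommRingCat.of k)))
  have hρ : ρ ≫ X.presheaf.germ U _ hηU = CommRingCat.ofHom (algebraMap k X.functionField) :=
    Spec.map_injective (by
      rw [Spec.map_comp, Spec.map_preimage, ← Category.assoc, ← fromSpecStalk_over,
        ← hU.fromSpecStalk_eq_fromSpecStalk hηU]
      rfl)
  have hC : CommRingCat.ofHom ((Ideal.Quotient.mk (Ideal.span {rel P Q})).comp
      (MvPolynomial.C : k →+* MvPolynomial (Fin 2) k)) ≫ Ψ₀.toCommRingCatIso.hom = ρ := by
    refine CommRingCat.hom_ext (RingHom.ext fun c => germ_injective_of_isIntegral X _ hηU ?_)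
    refine (hΨ (MvPolynomial.C c)).trans ?_
    refine (AlgHom.commutes (evalPair (k := k) t y) c).trans ?_
    exact congr($hρ c).symm
  simp only [Iso.trans_hom, Functor.mapIso_hom, Iso.op_hom, Scheme.Spec_map, Quiver.Hom.unop_op,
    Category.assoc, ← Spec.map_comp]
  rw [hC, Spec.map_preimage, ← hU.isoSpec_inv_ι, Category.assoc, Iso.hom_inv_id_assoc]

end Groth.Agent.HyperP1
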