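import Groth.Agent.FFLib.Geometric
import Groth.Agent.FFLib.Rational
import Groth.Agent.S11000
import Mathlib.FieldTheory.PurelyInseparable.Basic
import Mathlib.FieldTheory.SeparableClosure

/-!
A quadratic extension `K/k(x)` is separable when `K` generates a field of positive genus over a perfect field.
-/

noncomputable section

set_option autoImplicit false
set_option linter.style.haveILetI false

namespace Groth.Agent.HyperP1

open scoped IntermediateField
open FunFld

universe u

variable {k K kb L : Type u} [Field k] [Field K] [Algebra k K] [Field kb] [Field L] [Algebra kb L]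

/-- Quadratic extensions are separable or have all squares in the base. -/
theorem separable_or_sq (F : Type u) [Field F] [Algebra F K] (hd : Module.finrank F K = 2) :
    Algebra.IsSeparable F K ∨ (CharP F 2 ∧ ∀ a : K, a ^ 2 ∈ Set.range (algebraMap F K)) := by
  haveI : FiniteDimensional F K := Module.finite_of_finrank_pos (by omega)
  have htower := Module.finrank_mul_finrank F (separableClosure F K) K
  rw [hd] at htower
  rcases (Nat.dvd_prime Nat.prime_two).1 (Dvd.intro _ htower) with h | h
  · right
    rw [IntermediateField.finrank_eq_one_iff] at h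
    haveI : IsPurelyInseparable F K :=
      separableClosure.eq_bot_iff.1 h
    obtain ⟨q, hq⟩ := ExpChar.exists F
    obtain ⟨n, hn⟩ := IsPurelyInseparable.finrank_eq_pow F K q
    rw [hd] at hn
    have hn0 : n ≠ 0 := fun h0 => by simp [h0] at hn
    have hq2 : q = 2 := by
      rcases (Nat.dvd_prime Nat.prime_two).1 (hn ▸ dvd_pow_self q hn0) with h1 | h1
      · rw [h1, one_pow] at hn; omega
      · exact h1
    subst hq2
    refine ⟨by cases hq; assumption, fun a => ?_⟩
    obtain ⟨m, y, hm⟩ := IsPurelyInseparable.minpoly_eq_X_pow_sub_C F 2 a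
    have hle := minpoly.natDegree_le (A := F) a
    rw [hm, Polynomial.natDegree_X_pow_sub_C, hd] at hle
    have hm1 : m ≤ 1 := by
      by_contra hc
      have := Nat.pow_le_pow_right (show 0 < 2 by norm_num) (show 2 ≤ m by omega)
      omega
    have ha := minpoly.aeval F a
    rw [hm, map_sub, map_pow, Polynomial.aeval_X, Polynomial.aeval_C, sub_eq_zero] at ha
    interval_cases m
    · exact ⟨y ^ 2, by rw [map_pow, ← ha, pow_zero, pow_one]⟩
    · exact ⟨y, by rw [← ha, pow_one]⟩
  · left
    rw [← separableClosure.eq_top_iff]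
    exact IntermediateField.eq_of_le_of_finrank_eq le_top (by rw [h, IntermediateField.finrank_top', hd])

theorem isSeparable_of_finrank_two [PerfectField kb] (hL : IsFunctionField kb L) (hg : genus kb L ≠ 0)
    (γ : k →+* kb) (ι : K →+* L) (hι : ι.comp (algebraMap k K) = (algebraMap kb L).comp γ)
    (hgen : Subfield.closure (Set.range (algebraMap kb L) ∪ Set.range ι) = ⊤)
    (x : K) (hd : Module.finrank k⟮x⟯ K = 2) : Algebra.IsSeparable k⟮x⟯ K := by
  rcases separable_or_sq (K := K) k⟮x⟯ hd with h | ⟨hc, hsq⟩
  · exact h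
  exfalso
  haveI : Fact (Nat.Prime 2) := ⟨Nat.prime_two⟩
  haveI : CharP K 2 := charP_of_injective_algebraMap (algebraMap k⟮x⟯ K).injective 2
  haveI : CharP L 2 := charP_of_injective_ringHom ι.injective 2
  haveI : CharP kb 2 := (RingHom.charP_iff (algebraMap kb L) (algebraMap kb L).injective 2).2 inferInstance
  haveI : ExpChar kb 2 := .prime Nat.prime_two
  haveI : ExpChar L 2 := .prime Nat.prime_two
  haveI : PerfectRing kb 2 := PerfectField.toPerfectRing 2
  set N := kb⟮ι x⟯
  -- `ι` maps `k(x)` into `kb(ι x)`
  have hN : ∀ z ∈ k⟮x⟯, ι z ∈ N := by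
    intro z hz
    induction hz using IntermediateField.adjoin_induction with
    | mem a ha => rw [Set.mem_singleton_iff.1 ha]; exact IntermediateField.mem_adjoin_simple_self kb _
    | algebraMap c =>
      rw [show ι (algebraMap k K c) = algebraMap kb L (γ c) from congr($hι c)]
      exact IntermediateField.algebraMap_mem _ _
    | add a b _ _ ha hb => rw [map_add]; exact add_mem ha hb
    | inv a _ ha => rw [map_inv₀]; exact inv_mem ha
    | mul a b _ _ ha hb => rw [map_mul]; exact mul_mem ha hb
  -- all squares of `L` lie in `kb(ι x)`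
  have hsqL : ∀ z : L, z ^ 2 ∈ N := by
    have h : (⊤ : Subfield L) ≤ N.toSubfield.comap (frobenius L 2) := by
      rw [← hgen, Subfield.closure_le]
      rintro z (⟨c, rfl⟩ | ⟨a, rfl⟩)
      · show algebraMap kb L c ^ 2 ∈ N
        rw [← map_pow]
        exact IntermediateField.algebraMap_mem _ _
      · show ι a ^ 2 ∈ N
        rw [← map_pow]
        obtain ⟨b, hb⟩ := hsq a
        rw [← hb]
        exact hN _ b.2
    exact fun z => h (show z ∈ (⊤ : Subfield L) from trivial)
  by_cases hx : ∃ w : L, w ^ 2 = ι x
  · obtain ⟨w, hw⟩ := hx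
    refine hg (FFLib.genus_eq_zero_of_adjoin hL (x := w) (eq_top_iff.2 fun z _ => ?_)).1
    have hle : N.toSubfield ≤ kb⟮w⟯.toSubfield.map (frobenius L 2) := by
      rw [IntermediateField.adjoin_toSubfield, Subfield.closure_le]
      rintro a (⟨c, rfl⟩ | ha)
      · obtain ⟨d, hd'⟩ := surjective_frobenius kb 2 c
        exact ⟨algebraMap kb L d, IntermediateField.algebraMap_mem _ d,
          by rw [← hd', frobenius_def, frobenius_def, map_pow]⟩
      · rw [Set.mem_singleton_iff.1 ha]
        exact ⟨w, IntermediateField.mem_adjoin_simple_self kb w, hw⟩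
    obtain ⟨u, hu, huz⟩ := hle (hsqL z)
    have : u = z := frobenius_inj L 2 (by rw [frobenius_def 2 z]; exact huz)
    exact this ▸ hu
  · obtain ⟨s, hs, hsep⟩ := FFLib.exists_separating_element hL (S11000.result kb L hL)
    obtain ⟨hfin, -, -⟩ := FFLib.powField_facts 2 hL hs hsep
    have hle : FFLib.powField kb L 2 ≤ N :=
      IntermediateField.adjoin_le_iff.2 (by rintro _ ⟨z, rfl⟩; exact hsqL z)
    haveI : FiniteDimensional (FFLib.powField kb L 2) L := Module.finite_of_finrank_pos (by omega)
    have hxP : ι x ∉ FFLib.powField kb L 2 := by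
      intro hmem
      have h2 : (FFLib.powField kb L 2).toSubfield ≤ (frobenius L 2).fieldRange := by
        rw [IntermediateField.adjoin_toSubfield, Subfield.closure_le]
        rintro a (⟨c, rfl⟩ | ⟨z, rfl⟩)
        · obtain ⟨d, hd'⟩ := surjective_frobenius kb 2 c
          exact ⟨algebraMap kb L d, by rw [← hd', frobenius_def, frobenius_def, map_pow]⟩
        · exact ⟨z, (frobenius_def 2 z)⟩
      obtain ⟨w, hw⟩ := h2 hmem
      exact hx ⟨w, hw⟩
    have htop : (FFLib.powField kb L 2)⟮ι x⟯ = ⊤ := by
      have hdvd : Module.finrank (FFLib.powField kb L 2) (FFLib.powField kb L 2)⟮ι x⟯ ∣ 2 :=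
        Dvd.intro _ ((Module.finrank_mul_finrank (FFLib.powField kb L 2) (FFLib.powField kb L 2)⟮ι x⟯ L).trans hfin)
      rcases (Nat.dvd_prime Nat.prime_two).1 hdvd with h | h
      · rw [IntermediateField.finrank_eq_one_iff, IntermediateField.adjoin_simple_eq_bot_iff,
          IntermediateField.mem_bot] at h
        obtain ⟨b, hb⟩ := h
        exact (hxP (hb ▸ b.2)).elim
      · exact IntermediateField.eq_of_le_of_finrank_eq le_top (by rw [h, IntermediateField.finrank_top', hfin])
    refine hg (FFLib.genus_eq_zero_of_adjoin hL (x := ι x) (eq_top_iff.2 fun z _ => ?_)).1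
    have hz : z ∈ (FFLib.powField kb L 2)⟮ι x⟯.toSubfield := by rw [htop]; trivial
    rw [IntermediateField.adjoin_toSubfield] at hz
    refine (Subfield.closure_le (t := N.toSubfield)).2 ?_ hz
    rintro a (⟨c, rfl⟩ | ha)
    · exact hle c.2
    · rw [Set.mem_singleton_iff.1 ha]; exact IntermediateField.mem_adjoin_simple_self kb _

end Groth.Agent.HyperP1
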