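import Groth.Agent.HyperP1.LineMap
import Groth.Agent.HyperP1.SeparableField
import Groth.Agent.ZetaCurve.Bridge
import Groth.Agent.CurveBC.Main
import Groth.Agent.EtPBC0.Discrete

/-!
On a smooth proper curve of positive genus every function of degree two is separating.
-/

noncomputable section

set_option autoImplicit false
set_option linter.style.haveILetI false
set_option linter.unusedSectionVars false
set_option backward.isDefEq.respectTransparency false
set_option backward.isDefEq.respectTransparency.types false

universe u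

open CategoryTheory CategoryTheory.Limits AlgebraicGeometry TopologicalSpace
open scoped IntermediateField

namespace Groth.Agent.HyperP1

/-- A pushout of rings is generated by the two sides. -/
theorem closure_eq_top_of_isPushout {A B C D : CommRingCat.{u}} {f : A ⟶ B} {g : A ⟶ C} {b : B ⟶ D}
    {c : C ⟶ D} (h : IsPushout f g b c) :
    Subring.closure (Set.range b.hom ∪ Set.range c.hom) = ⊤ := by
  set S := Subring.closure (Set.range b.hom ∪ Set.range c.hom)
  let b' : B ⟶ CommRingCat.of S :=
    CommRingCat.ofHom (b.hom.codRestrict S fun r => Subring.subset_closure (Or.inl ⟨r, rfl⟩))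
  let c' : C ⟶ CommRingCat.of S :=
    CommRingCat.ofHom (c.hom.codRestrict S fun r => Subring.subset_closure (Or.inr ⟨r, rfl⟩))
  have w : f ≫ b' = g ≫ c' := CommRingCat.hom_ext (RingHom.ext fun r => Subtype.ext congr($(h.w) r))
  let ι : CommRingCat.of S ⟶ D := CommRingCat.ofHom S.subtype
  have : h.desc b' c' w ≫ ι = 𝟙 D := h.hom_ext (by rw [h.inl_desc_assoc, Category.comp_id]; rfl)
    (by rw [h.inr_desc_assoc, Category.comp_id]; rfl)
  refine eq_top_iff.2 fun d _ => ?_
  rw [show d = ι (h.desc b' c' w d) from congr($this d).symm]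
  exact ((h.desc b' c' w) d).2

variable (k : Type u) [Field k] {X : Scheme.{u}} [X.Over (Spec (CommRingCat.of k))] [IsIntegral X]

attribute [local instance] ZetaCurve.ffAlg CurveBC.overBar

local notation "kb" => AlgebraicClosure k
local notation "X'" => Curv2.bc k X (AlgebraicClosure k)
local notation "π" => Curv2.bcFst k X (AlgebraicClosure k)

theorem isSeparable_of_degree_two [IsProper (X ↘ Spec (CommRingCat.of k))]
    [Smooth (X ↘ Spec (CommRingCat.of k))] (hdim : topologicalKrullDim X = 1)
    (h0 : Module.finrank k (Coh.HH X (Coh.structureModule X) 0) = 1) (hg : 1 ≤ Curv2.genus k X)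
    (x : X.functionField) (hd : Module.finrank k⟮x⟯ X.functionField = 2) :
    Algebra.IsSeparable k⟮x⟯ X.functionField := by
  obtain ⟨hp, hsm, hint, hdim', hflat, hsurj⟩ := CurveBC.bar_facts k X hdim h0
  haveI := hp; haveI := hsm; haveI := hint; haveI := hflat; haveI := hsurj
  have hpb := CurveBC.isPullback_bar k X
  haveI := quasiSeparatedSpace_of_quasiSeparated (X ↘ Spec (CommRingCat.of k))
  haveI := QuasiCompact.compactSpace_of_compactSpace (X ↘ Spec (CommRingCat.of k))
  have h0' := CurveBC.finrank_h0 k kb π hpb h0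
  have hL : FunFld.IsFunctionField kb (X').functionField := ZetaCurve.isFunctionField kb X' hdim' h0'
  have hg' : FunFld.genus kb (X').functionField ≠ 0 := by
    rw [ZetaCurve.genus_eq kb X' hdim' h0', CurveBC.genus_eq k kb π hpb]; omega
  have hπ : π (genericPoint (X')) = genericPoint X := by
    have hs : π '' Set.univ = Set.univ := Set.image_univ.trans hsurj.surj.range_eq
    have hgp : IsGenericPoint (π (genericPoint (X'))) (closure (π '' Set.univ)) :=
      (genericPoint_spec (X')).image (π).continuous
    rw [hs, closure_univ] at hgp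
    exact hgp.eq (genericPoint_spec X)
  let ι : X.functionField ⟶ (X').functionField :=
    X.presheaf.stalkSpecializes (specializes_of_eq hπ) ≫ (π).stalkMap (genericPoint (X'))
  have hw : π ≫ (X ↘ Spec (CommRingCat.of k)) =
      (X' ↘ Spec (CommRingCat.of kb)) ≫ Spec.map (CommRingCat.ofHom (algebraMap k kb)) := hpb.w
  have hι : ι.hom.comp (algebraMap k X.functionField) =
      (algebraMap kb (X').functionField).comp (algebraMap k kb) := by
    have : CommRingCat.ofHom (algebraMap k X.functionField) ≫ ι =
        CommRingCat.ofHom (algebraMap k kb) ≫ CommRingCat.ofHom (algebraMap kb (X').functionField) := by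
      apply Spec.map_injective
      simp only [ι, Spec.map_comp, Category.assoc, ← fromSpecStalk_over,
        Scheme.SpecMap_stalkSpecializes_fromSpecStalk_assoc, Scheme.SpecMap_stalkMap_fromSpecStalk_assoc]
      rw [hw]
    exact congrArg CommRingCat.Hom.hom this
  refine isSeparable_of_finrank_two hL hg' (algebraMap k kb) ι.hom hι ?_ x hd
  obtain ⟨U, hU, hηU, -⟩ := exists_isAffineOpen_mem_and_subset (X := X) (U := ⊤) (x := genericPoint X) trivial
  obtain ⟨hV, hpo⟩ := EtPBC0.isPushout_appLE_of_opens hpb (isAffineOpen_top (Spec (CommRingCat.of k)))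
    (isAffineOpen_top (Spec (CommRingCat.of kb))) hU (UT := ⊤) (US := ⊤) (by simp) (by simp)
  set V := π ⁻¹ᵁ U ⊓ (X' ↘ Spec (CommRingCat.of kb)) ⁻¹ᵁ ⊤ with hVdef
  have hηV : genericPoint (X') ∈ V := ⟨show π (genericPoint (X')) ∈ U from hπ ▸ hηU, trivial⟩
  haveI : Nonempty V := ⟨⟨_, hηV⟩⟩
  let S := Subfield.closure (Set.range (algebraMap kb (X').functionField) ∪ Set.range ι.hom)
  have hgerm : ∀ a : Γ(X', V), (X').presheaf.germ V _ hηV a ∈ S := by
    intro a
    have ha : a ∈ Subring.closure _ := closure_eq_top_of_isPushout hpo ▸ Subring.mem_top a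
    refine (Subring.closure_le (t := S.toSubring.comap ((X').presheaf.germ V _ hηV).hom)).2 ?_ ha
    rintro _ (⟨s, rfl⟩ | ⟨c, rfl⟩)
    · refine Subfield.subset_closure (Or.inr ⟨X.presheaf.germ U _ hηU s, ?_⟩)
      show ι (X.presheaf.germ U _ hηU s) = (X').presheaf.germ V _ hηV ((π).appLE U V inf_le_left s)
      simp only [ι, CommRingCat.comp_apply, TopCat.Presheaf.germ_stalkSpecializes_apply,
        Scheme.Hom.germ_stalkMap_apply, Scheme.Hom.appLE, TopCat.Presheaf.germ_res_apply']
    · refine Subfield.subset_closure (Or.inl ⟨(Scheme.ΓSpecIso (CommRingCat.of kb)).hom c, ?_⟩)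
      show (X').presheaf.germ ⊤ _ trivial ((X' ↘ Spec (CommRingCat.of kb)).appTop
          ((Scheme.ΓSpecIso (CommRingCat.of kb)).inv ((Scheme.ΓSpecIso (CommRingCat.of kb)).hom c))) =
        (X').presheaf.germ V _ hηV ((X' ↘ Spec (CommRingCat.of kb)).appLE ⊤ V inf_le_right c)
      rw [Iso.hom_inv_id_apply]
      simp only [Scheme.Hom.appLE, Scheme.Hom.appTop, CommRingCat.comp_apply,
        TopCat.Presheaf.germ_res_apply']
      rfl
  haveI := functionField_isFractionRing_of_isAffineOpen X' V hV
  refine eq_top_iff.2 fun z _ => ?_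
  obtain ⟨a, b, hb, rfl⟩ := IsFractionRing.div_surjective (A := Γ(X', V)) z
  exact div_mem (hgerm a) (hgerm b)

end Groth.Agent.HyperP1
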