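import Groth.Agent.FFLib.Geometric
import Groth.Agent.S11000
import Mathlib.FieldTheory.PurelyInseparable.Basic
import Mathlib.FieldTheory.Relrank

/-!
Subfields of finite index with purely inseparable extension are images of Frobenius powers.
-/

noncomputable section

namespace Groth.Agent.HyperP1

open FunFld IntermediateField
open scoped IntermediateField

universe u v

variable {k : Type u} {K : Type v} [Field k] [Field K] [Algebra k K]

theorem exists_iterateFrobenius [PerfectField k] (hK : IsFunctionField k K) (p : ℕ) [Fact p.Prime]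
    [CharP K p] : ∀ (d : ℕ) (L : Subfield K), Module.finrank L K = d → d ≠ 0 →
      (∀ c : k, algebraMap k K c ∈ L) → (∀ a : K, ∃ n, a ^ p ^ n ∈ L) →
      ∃ n, L = (iterateFrobenius K p n).fieldRange := by
  haveI : CharP k p := (RingHom.charP_iff (algebraMap k K) (algebraMap k K).injective p).2 inferInstance
  haveI : ExpChar k p := .prime Fact.out
  haveI : ExpChar K p := .prime Fact.out
  haveI : PerfectRing k p := PerfectField.toPerfectRing p
  obtain ⟨x, hx, hsep⟩ := FFLib.exists_separating_element hK (S11000.result k K hK)
  obtain ⟨hfin, -, -⟩ := FFLib.powField_facts p hK hx hsep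
  have hR : (FFLib.powField k K p).toSubfield = (frobenius K p).fieldRange := by
    refine le_antisymm ?_ ?_
    · rw [IntermediateField.adjoin_toSubfield, Subfield.closure_le]
      rintro a (⟨c, rfl⟩ | ⟨z, rfl⟩)
      · obtain ⟨e, he⟩ := surjective_frobenius k p c
        exact ⟨algebraMap k K e, by rw [← he, frobenius_def, frobenius_def, map_pow]⟩
      · exact ⟨z, frobenius_def p z⟩
    · rintro _ ⟨z, rfl⟩
      exact frobenius_def p z ▸ FFLib.pow_mem_powField p z
  intro d
  induction d using Nat.strong_induction_on with
  | _ d ih =>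
    intro L hd hd0 hk hpi
    by_cases htop : L = ⊤
    · refine ⟨0, htop.trans (Eq.symm (eq_top_iff.2 fun z _ => ⟨z, ?_⟩))⟩
      simp
    have hle : L ≤ (frobenius K p).fieldRange := by
      intro z hz
      rw [← hR]
      by_contra hzn
      refine htop (eq_top_iff.2 fun a _ => ?_)
      let L' : IntermediateField k K :=
        { L with algebraMap_mem' := hk }
      have hs : Algebra.IsSeparable k⟮z⟯ K := FFLib.isSeparable_of_notMem p hK hx hsep hzn
      have hle' : k⟮z⟯ ≤ L' := adjoin_simple_le_iff.2 hz
      letI := (IntermediateField.inclusion hle').toRingHom.toAlgebra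
      haveI : IsScalarTower k⟮z⟯ L' K := IsScalarTower.of_algebraMap_eq fun _ => rfl
      haveI : Algebra.IsSeparable L' K := Algebra.isSeparable_tower_top_of_isSeparable k⟮z⟯ L' K
      haveI : ExpChar L' p := (algebraMap L' K).expChar (algebraMap L' K).injective p
      haveI : IsPurelyInseparable L' K := by
        rw [isPurelyInseparable_iff_pow_mem L' p]
        exact fun b => ⟨(hpi b).choose, ⟨⟨_, (hpi b).choose_spec⟩, rfl⟩⟩
      obtain ⟨b, rfl⟩ := IsPurelyInseparable.surjective_algebraMap_of_isSeparable L' K a
      exact b.2
    have hmul := Subfield.relfinrank_mul_finrank_top hle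
    have hfinR : Module.finrank (frobenius K p).fieldRange K = p := by rw [← hR]; exact hfin
    rw [hfinR, hd, ← Subfield.finrank_comap] at hmul
    have hp : 1 < p := (Fact.out : p.Prime).one_lt
    set d' := Module.finrank (L.comap (frobenius K p)) K
    have hd'0 : d' ≠ 0 := fun h => hd0 (by rw [← hmul, h, zero_mul])
    have hlt : d' < d := by
      rw [← hmul]
      exact lt_mul_of_one_lt_right (Nat.pos_of_ne_zero hd'0) hp
    obtain ⟨n, hn⟩ := ih d' hlt (L.comap (frobenius K p)) rfl hd'0
      (fun c => show frobenius K p (algebraMap k K c) ∈ L by rw [frobenius_def, ← map_pow]; exact hk _)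
      (fun a => ⟨(hpi a).choose, show frobenius K p _ ∈ L from pow_mem (hpi a).choose_spec p⟩)
    refine ⟨n + 1, ?_⟩
    have hL : L = (L.comap (frobenius K p)).map (frobenius K p) := by
      rw [Subfield.map_comap_eq, inf_of_le_left hle]
    rw [hL, hn, RingHom.map_fieldRange]
    congr 1
    ext a
    simp [iterateFrobenius_def, frobenius_def, pow_succ, pow_mul]

end Groth.Agent.HyperP1
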