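import Groth.Agent.HyperP1.Hyper
import Groth.Agent.AVDegPoly.Pullback
import Groth.Agent.AlgSpVal.EtaleModel
import Groth.Agent.S7863
import Groth.Agent.P1Split.Basic
import Groth.Agent.CurveEmbed.Conic

/-!
Double covers of the line: flatness, rank and generic etaleness of the maps given by functions.
-/

noncomputable section

set_option autoImplicit false
set_option linter.style.haveILetI false
set_option linter.unusedSectionVars false
set_option backward.isDefEq.respectTransparency false
set_option backward.isDefEq.respectTransparency.types false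

universe u

open CategoryTheory CategoryTheory.Limits AlgebraicGeometry TopologicalSpace
open scoped IntermediateField

namespace Groth.Agent.HyperP1

/-- A map of integral schemes preserving generic points is injective on stalks. -/
theorem stalkMap_injective {X Y : Scheme.{u}} [IsIntegral X] [IsIntegral Y] (f : X ⟶ Y)
    (e : f (genericPoint X) = genericPoint Y) (z : X) : Function.Injective (f.stalkMap z) := by
  have hne : ∀ a, f.stalkMap z a = 0 → a = 0 := by
    intro a ha
    have hsq := congr($(Scheme.Hom.stalkSpecializes_stalkMap f (genericPoint X) z (genericPoint_specializes z)) a)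
    simp only [CommRingCat.comp_apply, ha, map_zero] at hsq
    have hK : IsField (Y.presheaf.stalk (f (genericPoint X))) := e ▸ CurveBundle.isField_stalk_generic
    letI := hK.toField
    have h0 := (map_eq_zero (f.stalkMap (genericPoint X)).hom).1 hsq
    -- move to the generic point of `Y`
    have h1 := congrArg (Y.presheaf.stalkSpecializes (specializes_of_eq e.symm)) h0
    rw [map_zero, ← CommRingCat.comp_apply, TopCat.Presheaf.stalkSpecializes_comp] at h1
    exact (map_eq_zero_iff _ (IsFractionRing.injective (Y.presheaf.stalk (f z)) Y.functionField)).1 h1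
  exact (injective_iff_map_eq_zero (f.stalkMap z).hom).2 hne

/-- A map to a regular curve preserving generic points is flat. -/
theorem flat_of_valuationRing {X Y : Scheme.{u}} [IsIntegral X] [IsIntegral Y] (f : X ⟶ Y)
    (e : f (genericPoint X) = genericPoint Y) (hv : ∀ y : Y, ValuationRing (Y.presheaf.stalk y)) : Flat f := by
  refine Flat.of_stalkMap f fun z => ?_
  letI := (f.stalkMap z).hom.toAlgebra
  haveI := hv (f z)
  haveI : IsDomain (Y.presheaf.stalk (f z)) :=
    Function.Injective.isDomain _ (IsFractionRing.injective (Y.presheaf.stalk (f z)) Y.functionField)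
  haveI : IsDomain (X.presheaf.stalk z) :=
    Function.Injective.isDomain _ (IsFractionRing.injective (X.presheaf.stalk z) X.functionField)
  exact AlgSpVal.flat_of_injective (stalkMap_injective f e z)

variable (k : Type u) [Field k] {X : Scheme.{u}} [X.Over (Spec (CommRingCat.of k))] [IsIntegral X]
  [IsProper (X ↘ Spec (CommRingCat.of k))] [Smooth (X ↘ Spec (CommRingCat.of k))]
  (hdim : topologicalKrullDim X = 1)
  (f : X ⟶ CohB1.ProjSpace 1 k) (hf : f ≫ CohB1.ProjSpace.toSpec 1 k = X ↘ Spec (CommRingCat.of k))

attribute [local instance] ZetaCurve.ffAlg H23.PnChart.isIntegral_projSpace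

theorem valuationRing_line (p : CohB1.ProjSpace 1 k) : ValuationRing ((CohB1.ProjSpace 1 k).presheaf.stalk p) := by
  haveI : IsProper ((CohB1.ProjSpace 1 k) ↘ Spec (CommRingCat.of k)) := PnCoh.Chow.isProper_toSpec 1 k
  haveI : Smooth ((CohB1.ProjSpace 1 k) ↘ Spec (CommRingCat.of k)) := CurveEmbed.smooth_toSpec 1 k
  exact valuationRing_stalk k (P1Split.dim_eq k) p

variable (e : f (genericPoint X) = genericPoint (CohB1.ProjSpace 1 k))

include hf e

theorem flat_of_generic : Flat f := flat_of_valuationRing f e (valuationRing_line k)

theorem surjective_of_generic [IsFinite f] : Surjective f := by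
  refine ⟨fun y => ?_⟩
  have hcl := f.isClosedMap _ (isClosed_univ (X := X))
  exact ((genericPoint_specializes y).mem_closed hcl ⟨genericPoint X, trivial, e⟩).imp fun z hz => hz.2

theorem finrank_eq_residueDegree [IsFinite f] (y : CohB1.ProjSpace 1 k) :
    f.finrank y = f.residueDegree (genericPoint X) := by
  let A : Over (Spec (CommRingCat.of k)) := Over.mk (X ↘ Spec (CommRingCat.of k))
  let B : Over (Spec (CommRingCat.of k)) := Over.mk (CohB1.ProjSpace.toSpec 1 k)
  let φ : A ⟶ B := Over.homMk f hf
  haveI : IsIntegral A.left := ‹IsIntegral X›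
  haveI : IsIntegral B.left := H23.PnChart.isIntegral_projSpace 1 k
  haveI : IsFinite φ.left := ‹IsFinite f›
  haveI : Surjective φ.left := surjective_of_generic k f hf e
  haveI : Flat φ.left := flat_of_generic k f hf e
  haveI : IsProper (CohB1.ProjSpace.toSpec 1 k) := PnCoh.Chow.isProper_toSpec 1 k
  haveI : IsLocallyNoetherian (CohB1.ProjSpace 1 k) :=
    LocallyOfFiniteType.isLocallyNoetherian (CohB1.ProjSpace.toSpec 1 k)
  haveI : LocallyOfFinitePresentation φ.left :=
    inferInstanceAs (LocallyOfFinitePresentation f)
  exact (AVDegPoly.residueDegree_generic φ y).symm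

include hdim in
theorem etale_iff_separable :
    (∃ U : X.Opens, (U : Set X).Nonempty ∧ Etale (U.ι ≫ f)) ↔
      (letI := (f.residueFieldMap (genericPoint X)).hom.toAlgebra
      Algebra.IsSeparable ((CohB1.ProjSpace 1 k).residueField (f (genericPoint X)))
        (X.residueField (genericPoint X))) := by
  haveI : IsProper ((CohB1.ProjSpace 1 k) ↘ Spec (CommRingCat.of k)) := PnCoh.Chow.isProper_toSpec 1 k
  have h := (S7863.result k X (CohB1.ProjSpace 1 k) (hdim.trans (P1Split.dim_eq k).symm) f hf e).2
  letI := ((((CohB1.ProjSpace 1 k).presheaf.stalkSpecializes (specializes_of_eq e)) ≫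
    f.stalkMap (genericPoint X)).hom).toAlgebra
  letI := (f.residueFieldMap (genericPoint X)).hom.toAlgebra
  rw [h]
  have hbij : ∀ (Z : Scheme.{u}) (z : Z), IsField (Z.presheaf.stalk z) → Function.Bijective (Z.residue z) := by
    intro Z z hz
    letI := hz.toField
    exact ⟨RingHom.injective _, IsLocalRing.residue_surjective⟩
  let sp := (CohB1.ProjSpace 1 k).presheaf.stalkSpecializes (specializes_of_eq e)
  have hsp : Function.Bijective sp := by
    haveI : IsIso sp := by
      refine ⟨(CohB1.ProjSpace 1 k).presheaf.stalkSpecializes (specializes_of_eq e.symm), ?_, ?_⟩ <;>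
        simp [sp]
    exact ConcreteCategory.bijective_of_isIso sp
  have hK : IsField ((CohB1.ProjSpace 1 k).presheaf.stalk (f (genericPoint X))) :=
    e ▸ CurveBundle.isField_stalk_generic
  let e₁ : (CohB1.ProjSpace 1 k).functionField ≃+*
      (CohB1.ProjSpace 1 k).residueField (f (genericPoint X)) :=
    (RingEquiv.ofBijective sp.hom hsp).trans
      (RingEquiv.ofBijective ((CohB1.ProjSpace 1 k).residue (f (genericPoint X))).hom (hbij _ _ hK))
  have he : (algebraMap ((CohB1.ProjSpace 1 k).residueField (f (genericPoint X)))
      (X.residueField (genericPoint X))).comp e₁.toRingHom =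
      (resEquiv X).toRingHom.comp (algebraMap (CohB1.ProjSpace 1 k).functionField X.functionField) :=
    RingHom.ext fun a => congrArg (fun ψ => ψ (sp a)) (Scheme.residue_residueFieldMap f (genericPoint X))
  refine ⟨fun _ => Algebra.IsSeparable.of_equiv_equiv e₁ (resEquiv X) he, fun _ => ?_⟩
  refine Algebra.IsSeparable.of_equiv_equiv e₁.symm (resEquiv X).symm (RingHom.ext fun a => ?_)
  have := congrArg (resEquiv X).symm congr($he (e₁.symm a))
  simp only [RingHom.comp_apply, RingEquiv.toRingHom_eq_coe, RingHom.coe_coe,
    RingEquiv.apply_symm_apply, RingEquiv.symm_apply_apply] at this ⊢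
  exact this.symm

end Groth.Agent.HyperP1
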