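import Groth.Agent.FFLib.Rational
import Groth.Agent.FFLib.Elliptic
import Groth.Agent.FFLib.Small
import Groth.Agent.FFLib.RR

/-!
Functions of degree two on a function field: the basis `{tⁱ} ∪ {tʲ y}` of the multiples of the divisor of
poles, and the equation `y² + Q(t) y = P(t)`.
-/

set_option linter.style.haveILetI false
set_option maxHeartbeats 400000

namespace Groth.Agent.HyperP1

open FunFld IntermediateField Polynomial WithZero
open scoped IntermediateField

universe u v

variable {k : Type u} {K : Type v} [Field k] [Field K] [Algebra k K]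

theorem deg_nsmul (D : Divisor k K) (n : ℕ) : ((n : ℤ) • D).deg = n * D.deg := by
  induction n with
  | zero => simp
  | succ n ih => push_cast; rw [add_smul, one_smul, FFLib.Divisor.deg_add, ih]; ring

theorem pow_mem_L {D : Divisor k K} {x : K} (hx : x ∈ L D) (n : ℕ) : x ^ n ∈ L ((n : ℤ) • D) := by
  induction n with
  | zero =>
    intro P
    simp
  | succ n ih =>
    push_cast
    rw [add_smul, one_smul, pow_succ]
    exact FFLib.mul_mem_L ih hx

theorem smul_mono {D : Divisor k K} (hD : 0 ≤ D) {m n : ℤ} (h : m ≤ n) : m • D ≤ n • D := fun P => by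
  simp only [Finsupp.smul_apply, smul_eq_mul]
  exact mul_le_mul_of_nonneg_right h (hD P)

theorem mem_L_poles (hF : FFLib.IsFF k K) (x : K) : x ∈ L (FFLib.poles x : Divisor k K) :=
  fun P => FFLib.val_le_exp_poles hF x P

theorem val_aeval_le (hF : FFLib.IsFF k K) (t : K) (p : k[X]) {n : ℕ} (hp : p.natDegree ≤ n) :
    aeval t p ∈ L ((n : ℤ) • (FFLib.poles t : Divisor k K)) := by
  rw [Polynomial.aeval_eq_sum_range]
  refine Submodule.sum_mem _ fun i hi => Submodule.smul_mem _ _ ?_
  refine FFLib.L_mono (smul_mono (FFLib.poles_nonneg t) ?_) (pow_mem_L (mem_L_poles hF t) i)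
  have := Finset.mem_range.1 hi
  omega

theorem eq_zero_of_mul_add {t y : K} (ht : Transcendental k t) (hy : y ∉ k⟮t⟯) {p q : k[X]}
    (h : aeval t p + aeval t q * y = 0) : p = 0 ∧ q = 0 := by
  have hq : q = 0 := by
    by_contra hq
    refine hy ?_
    have hq' : aeval t q ≠ 0 := fun h0 => hq ((transcendental_iff_injective.1 ht) (by simpa using h0))
    have hmem : ∀ r : k[X], aeval t r ∈ k⟮t⟯ := fun r =>
      aeval_mem_adjoin_singleton_simple r
    rw [show y = -aeval t p / aeval t q by rw [eq_div_iff hq']; linear_combination h]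
    exact div_mem (neg_mem (hmem p)) (hmem q)
  subst hq
  exact ⟨(transcendental_iff_injective.1 ht) (by simpa using h), rfl⟩
where
  aeval_mem_adjoin_singleton_simple {t : K} (r : k[X]) : aeval t r ∈ k⟮t⟯ := by
    rw [Polynomial.aeval_eq_sum_range]
    exact sum_mem fun i _ => IntermediateField.smul_mem _ (pow_mem (mem_adjoin_simple_self k t) i)

theorem aeval_mem_adjoin (t : K) (r : k[X]) : aeval t r ∈ k⟮t⟯ :=
  eq_zero_of_mul_add.aeval_mem_adjoin_singleton_simple r

/-- The value of a polynomial at a pole of the variable. -/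
theorem val_aeval_of_one_lt (P : Place k K) {t : K} (ht : 1 < P.1 t) {r : k[X]} (hr : r ≠ 0) :
    P.1 (aeval t r) = P.1 t ^ r.natDegree := by
  classical
  have hc : r.coeff r.natDegree ≠ 0 := by rw [coeff_natDegree]; exact leadingCoeff_ne_zero.2 hr
  rw [Polynomial.aeval_eq_sum_range,
    ← Finset.sum_subset (supp_subset_range_natDegree_succ (p := r)) fun i _ hi => by
      rw [notMem_support_iff.1 hi, zero_smul]]
  rw [P.1.map_sum_eq_of_lt (natDegree_mem_support_of_nonzero hr) fun i hi => ?_]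
  · rw [FFLib.val_smul P hc, map_pow]
  · have hi1 := (Finset.mem_sdiff.1 hi).1
    have hi2 : i < r.natDegree :=
      lt_of_le_of_ne (le_natDegree_of_mem_supp i hi1) (by simpa using (Finset.mem_sdiff.1 hi).2)
    rw [FFLib.val_smul P (mem_support_iff.1 hi1), FFLib.val_smul P hc, map_pow, map_pow]
    exact pow_lt_pow_right₀ ht hi2

/-- A nonzero fraction can be reduced. -/
theorem exists_coprime {t : K} (p₀ : k[X]) {q₀ : k[X]} (hq0 : aeval t q₀ ≠ 0) :
    ∃ p q : k[X], IsCoprime p q ∧ aeval t q ≠ 0 ∧ aeval t p₀ / aeval t q₀ = aeval t p / aeval t q := by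
  have hqne : q₀ ≠ 0 := fun h => hq0 (by rw [h, map_zero])
  obtain ⟨p, q, c, hco, hp, hq⟩ := UniqueFactorizationMonoid.exists_reduced_factors' p₀ q₀ hqne
  subst hp hq
  rw [map_mul] at hq0
  refine ⟨p, q, hco.isCoprime, right_ne_zero_of_mul hq0, ?_⟩
  rw [map_mul, map_mul]
  exact mul_div_mul_left _ _ (left_ne_zero_of_mul hq0)

/-- Functions of `k(t)` in `L(n (t)_∞)` are polynomials of degree at most `n`. -/
theorem exists_poly_of_mem (hF : FFLib.IsFF k K) {t : K} (ht : Transcendental k t) {n : ℕ} {z : K}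
    (hz : z ∈ k⟮t⟯) (hzL : z ∈ L ((n : ℤ) • (FFLib.poles t : Divisor k K))) :
    ∃ p : k[X], p.natDegree ≤ n ∧ z = aeval t p := by
  obtain ⟨p₀, q₀, rfl⟩ := (mem_adjoin_simple_iff k z).1 hz
  rcases eq_or_ne (aeval t q₀) 0 with hq0 | hq0
  · exact ⟨0, by simp, by simp [hq0]⟩
  obtain ⟨p, q, ⟨a, b, hab⟩, hq1, hpq⟩ := exists_coprime (t := t) p₀ hq0
  rw [hpq] at hzL ⊢
  have hqne : q ≠ 0 := fun h => hq1 (by rw [h, map_zero])
  have ht0 : t ≠ 0 := fun h => ht (h ▸ isAlgebraic_zero)
  have hqc : q.natDegree = 0 := by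
    by_contra hd
    obtain ⟨P, hP⟩ := FFLib.exists_place_zero hF (x := aeval t q)
      (ht.aeval q hd (mem_nonZeroDivisors_of_ne_zero (leadingCoeff_ne_zero.2 hqne)))
    have hord : P.1 (aeval t q) < 1 := hP
    have htP : P.1 t ≤ 1 := le_of_not_gt fun h => not_lt.2
      (le_of_le_of_eq (one_le_pow₀ h.le) (val_aeval_of_one_lt P h hqne).symm) hord
    have hint : ∀ r : k[X], P.1 (aeval t r) ≤ 1 := fun r => FFLib.val_aeval_le_one P.2.1 htP r
    have hpole : (FFLib.poles t : Divisor k K) P = 0 := by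
      have : 0 ≤ P.ord t := (FFLib.val_le_one_iff P ht0).1 htP
      simp [FFLib.poles, FFLib.div_apply hF]
      omega
    have hz1 : P.1 (aeval t p / aeval t q) ≤ 1 := by
      have := hzL P
      rwa [Finsupp.smul_apply, hpole, smul_zero, exp_zero] at this
    have hone : (aeval t a * (aeval t p / aeval t q) + aeval t b) * aeval t q = 1 := by
      rw [add_mul, mul_assoc, div_mul_cancel₀ _ hq1, ← map_mul, ← map_mul, ← map_add, hab, map_one]
    have h1 := congrArg P.1 hone
    rw [map_one, map_mul] at h1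
    have hle : P.1 (aeval t a * (aeval t p / aeval t q) + aeval t b) ≤ 1 :=
      (P.1.map_add _ _).trans (max_le (by rw [map_mul]; exact mul_le_one' (hint a) hz1) (hint b))
    exact absurd h1 (ne_of_lt ((mul_le_mul_left hle _).trans_lt (by rwa [one_mul])))
  obtain ⟨c, rfl⟩ := Polynomial.natDegree_eq_zero.1 hqc
  have he : aeval t p / aeval t (Polynomial.C c) = aeval t (Polynomial.C c⁻¹ * p) := by
    rw [map_mul, aeval_C, aeval_C, map_inv₀, div_eq_inv_mul]
  rw [he] at hzL ⊢
  refine ⟨_, ?_, rfl⟩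
  set r := Polynomial.C c⁻¹ * p
  rcases eq_or_ne r 0 with hr | hr
  · simp [hr]
  obtain ⟨P, hP⟩ := FFLib.exists_place_pole hF ht
  have hP1 : 1 < P.1 t := hP
  have hneg := (FFLib.one_lt_val_iff P ht0).1 hP1
  have hpole : (FFLib.poles t : Divisor k K) P = -P.ord t := by
    simp [FFLib.poles, FFLib.div_apply hF]
    omega
  have hle := hzL P
  rw [val_aeval_of_one_lt P hP1 hr, FFLib.val_eq_exp P ht0, ← exp_nsmul, Finsupp.smul_apply, hpole,
    exp_le_exp] at hle
  simp only [nsmul_eq_mul, smul_eq_mul] at hle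
  have : (r.natDegree : ℤ) ≤ n := le_of_mul_le_mul_right hle (by omega)
  omega

section Basis

variable {t y : K}

/-- The family `tⁱ (i < a)`, `tʲ y (j < b)`. -/
noncomputable def fam (t y : K) (a b : ℕ) : Fin a ⊕ Fin b → K :=
  Sum.elim (fun i => t ^ (i : ℕ)) fun j => t ^ (j : ℕ) * y

theorem linearIndependent_fam (ht : Transcendental k t) (hy : y ∉ k⟮t⟯) (a b : ℕ) :
    LinearIndependent k (fam t y a b) := by
  rw [Fintype.linearIndependent_iff]
  intro c hc
  let p : k[X] := ∑ i : Fin a, monomial (i : ℕ) (c (.inl i))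
  let q : k[X] := ∑ j : Fin b, monomial (j : ℕ) (c (.inr j))
  have he : aeval t p + aeval t q * y = 0 := by
    rw [← hc, Fintype.sum_sum_type, map_sum, map_sum, Finset.sum_mul]
    congr 1 <;> refine Finset.sum_congr rfl fun i _ => ?_ <;>
      simp [fam, aeval_monomial, Algebra.smul_def, mul_assoc]
  obtain ⟨hp, hq⟩ := eq_zero_of_mul_add ht hy he
  rintro (i | j)
  · have := congrArg (fun r : k[X] => r.coeff i) hp
    simpa [p, finsetSum_coeff, coeff_monomial, Fin.val_eq_val] using this
  · have := congrArg (fun r : k[X] => r.coeff j) hq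
    simpa [q, finsetSum_coeff, coeff_monomial, Fin.val_eq_val] using this

theorem fam_mem (hF : FFLib.IsFF k K) {n m a b : ℕ}
    (hy : y ∈ L ((n : ℤ) • (FFLib.poles t : Divisor k K))) (ha : a ≤ m + 1) (hb : b + n ≤ m + 1)
    (i : Fin a ⊕ Fin b) : fam t y a b i ∈ L ((m : ℤ) • (FFLib.poles t : Divisor k K)) := by
  have hmono : ∀ {l : ℤ}, l ≤ m → L (l • (FFLib.poles t : Divisor k K)) ≤
      L ((m : ℤ) • (FFLib.poles t : Divisor k K)) := fun h =>
    FFLib.L_mono (smul_mono (FFLib.poles_nonneg t) h)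
  rcases i with i | j
  · exact hmono (by have := i.2; omega) (pow_mem_L (mem_L_poles hF t) i)
  · have := FFLib.mul_mem_L (pow_mem_L (mem_L_poles hF t) j) hy
    rw [← add_smul] at this
    exact hmono (by have := j.2; omega) this

theorem card_le_ell (hF : FFLib.IsFF k K) (ht : Transcendental k t) (hyt : y ∉ k⟮t⟯) {n m a b : ℕ}
    (hy : y ∈ L ((n : ℤ) • (FFLib.poles t : Divisor k K))) (ha : a ≤ m + 1) (hb : b + n ≤ m + 1) :
    a + b ≤ ell ((m : ℤ) • (FFLib.poles t : Divisor k K)) := by
  haveI := FFLib.L_finite hF ((m : ℤ) • (FFLib.poles t : Divisor k K))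
  have hw : LinearIndependent k
      (fun i => (⟨_, fam_mem hF hy ha hb i⟩ : L ((m : ℤ) • (FFLib.poles t : Divisor k K)))) :=
    LinearIndependent.of_comp (Submodule.subtype _) (linearIndependent_fam ht hyt a b)
  have := hw.fintype_card_le_finrank
  simpa [ell] using this

end Basis

variable (hK : IsFunctionField k K)

include hK

theorem transcendental_of_finrank {x : K} (hd : Module.finrank k⟮x⟯ K ≠ 0) : Transcendental k x := by
  intro hx
  obtain ⟨t, ht, -⟩ := hK.1
  haveI : FiniteDimensional k k⟮x⟯ := adjoin.finiteDimensional hx.isIntegral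
  haveI : FiniteDimensional k⟮x⟯ K := Module.finite_of_finrank_pos (Nat.pos_of_ne_zero hd)
  haveI : FiniteDimensional k K := Module.Finite.trans k⟮x⟯ K
  exact ht (Algebra.IsIntegral.isIntegral (R := k) t).isAlgebraic

theorem deg_eq_one_of_genus_pos {x : K} (hg : 1 ≤ genus k K) : Module.finrank k⟮x⟯ K ≠ 1 := fun h => by
  have htop : k⟮x⟯ = ⊤ := eq_top_iff.2 fun z _ => by
    obtain ⟨c, hc⟩ := finrank_eq_one_iff_of_nonzero' (1 : K) one_ne_zero |>.1 h z
    rw [IntermediateField.smul_def, smul_eq_mul, mul_one] at hc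
    exact hc ▸ c.2
  have := (FFLib.genus_eq_zero_of_adjoin hK htop).1
  omega

/-- An effective divisor of degree two with two sections, in positive genus. -/
theorem exists_x_of_ell (hg : 1 ≤ genus k K) {E : Divisor k K} (hE : 0 ≤ E) (hd : E.deg = 2)
    (hl : 2 ≤ ell E) : ell E = 2 ∧ ∃ x : K, Module.finrank k⟮x⟯ K = 2 ∧ FFLib.poles x = E := by
  have hF := hK.1
  have hpoles : ∀ x ∈ L E, x ∉ Set.range (algebraMap k K) →
      Transcendental k x ∧ Module.finrank k⟮x⟯ K = 2 ∧ FFLib.poles x = E := by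
    intro x hx hnc
    have ht : Transcendental k x := FFLib.transcendental_of_not_range hK hnc
    have hle : (FFLib.poles x : Divisor k K) ≤ E := fun P => by
      have h1 := hx P
      have h2 : (0 : ℤ) ≤ E P := hE P
      rw [FFLib.val_eq_exp P (show x ≠ 0 from fun h => ht (h ▸ isAlgebraic_zero)), exp_le_exp] at h1
      simp [FFLib.poles, FFLib.div_apply hF]
      omega
    have hdeg := FFLib.Divisor.deg_mono hle
    rw [FFLib.deg_poles hF ht, hd] at hdeg
    haveI := FFLib.IsFF.finite_adjoin hF ht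
    have hpos : 0 < Module.finrank k⟮x⟯ K := Module.finrank_pos
    have hne := deg_eq_one_of_genus_pos hK (x := x) hg
    have h2 : Module.finrank k⟮x⟯ K = 2 := by omega
    exact ⟨ht, h2, FFLib.deg_eq_of_le hF hle (by rw [FFLib.deg_poles hF ht, hd, h2]; norm_num)⟩
  haveI := FFLib.L_finite hF E
  obtain ⟨x, hx, hnc⟩ : ∃ x ∈ L E, x ∉ Set.range (algebraMap k K) := by
    by_contra! h
    have hle : L E ≤ Submodule.span k {(1 : K)} := fun z hz => by
      obtain ⟨c, rfl⟩ := h z hz
      exact Submodule.mem_span_singleton.2 ⟨c, by rw [Algebra.smul_def, mul_one]⟩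
    have := Submodule.finrank_mono hle
    rw [finrank_span_singleton one_ne_zero] at this
    unfold ell at hl
    omega
  obtain ⟨ht, h2, hp⟩ := hpoles x hx hnc
  refine ⟨le_antisymm ?_ hl, x, h2, hp⟩
  by_contra! hbig
  obtain ⟨y, hy, hyt⟩ : ∃ y ∈ L E, y ∉ k⟮x⟯ := by
    by_contra! h
    have hle : L E ≤ Submodule.span k (Set.range ![1, x]) := fun z hz => by
      obtain ⟨p, hp1, rfl⟩ := exists_poly_of_mem hF ht (h z hz) (n := 1) (by
        rw [Nat.cast_one, one_smul, hp]; exact hz)
      rw [Polynomial.aeval_eq_sum_range' (n := 2) (by omega), Finset.sum_range_succ, Finset.sum_range_one]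
      refine add_mem (Submodule.smul_mem _ _ (Submodule.subset_span ⟨0, by simp⟩))
        (Submodule.smul_mem _ _ (Submodule.subset_span ⟨1, by simp⟩))
    haveI : Module.Finite k (Submodule.span k (Set.range ![1, x])) :=
      Module.Finite.span_of_finite k (Set.finite_range _)
    have := (Submodule.finrank_mono hle).trans (finrank_range_le_card ![1, x])
    unfold ell at hbig
    simp at this
    omega
  -- too many functions in high degree
  set m := genus k K + 1
  have hcard := card_le_ell hF ht hyt (n := 1) (m := m) (a := m + 1) (b := m)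
    (by rw [Nat.cast_one, one_smul, hp]; exact hy) le_rfl le_rfl
  have hdeg : ((m : ℤ) • (FFLib.poles x : Divisor k K)).deg = m * 2 := by rw [deg_nsmul, hp, hd]
  have hell := FFLib.ell_of_deg_gt hK (D := (m : ℤ) • (FFLib.poles x : Divisor k K)) (by rw [hdeg]; omega)
  rw [hdeg] at hell
  omega

/-- The function field of a double cover: the equation, and the basis of the multiples of `(t)_∞`. -/
theorem exists_equation {g : ℕ} (hg : genus k K = g) (hg1 : 1 ≤ g) {t : K}
    (hd : Module.finrank k⟮t⟯ K = 2) :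
    ∃ (y : K) (P Q : k[X]), y ∉ k⟮t⟯ ∧ y ∈ L (((g + 1 : ℕ) : ℤ) • (FFLib.poles t : Divisor k K)) ∧
      y ^ 2 + aeval t Q * y = aeval t P ∧ P.natDegree ≤ 2 * g + 2 ∧ Q.natDegree ≤ g + 1 := by
  have hF := hK.1
  have ht := transcendental_of_finrank hK (x := t) (by omega)
  have hdeg : ∀ m : ℕ, ((m : ℤ) • (FFLib.poles t : Divisor k K)).deg = m * 2 := fun m => by
    rw [deg_nsmul, FFLib.deg_poles hF ht, hd]; norm_num
  have hell : ∀ m : ℕ, g ≤ m → (ell ((m : ℤ) • (FFLib.poles t : Divisor k K)) : ℤ) = 2 * m + 1 - g :=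
    fun m hm => by rw [FFLib.ell_of_deg_gt hK (by rw [hdeg, hg]; omega), hdeg, hg]; ring
  haveI := fun D : Divisor k K => FFLib.L_finite hF D
  obtain ⟨y, hy, hyt⟩ : ∃ y ∈ L (((g + 1 : ℕ) : ℤ) • (FFLib.poles t : Divisor k K)), y ∉ k⟮t⟯ := by
    by_contra! h
    have hle : L (((g + 1 : ℕ) : ℤ) • (FFLib.poles t : Divisor k K)) ≤
        Submodule.span k (Set.range fun i : Fin (g + 2) => t ^ (i : ℕ)) := fun z hz => by
      obtain ⟨p, hp1, rfl⟩ := exists_poly_of_mem hF ht (h z hz) hz
      rw [Polynomial.aeval_eq_sum_range' (n := g + 2) (by omega), ← Fin.sum_univ_eq_sum_range]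
      exact Submodule.sum_mem _ fun i _ => Submodule.smul_mem _ _ (Submodule.subset_span ⟨i, rfl⟩)
    haveI : Module.Finite k (Submodule.span k (Set.range fun i : Fin (g + 2) => t ^ (i : ℕ))) :=
      Module.Finite.span_of_finite k (Set.finite_range _)
    have h1 := (Submodule.finrank_mono hle).trans (finrank_range_le_card _)
    have h2 := hell (g + 1) (by omega)
    rw [Fintype.card_fin] at h1
    unfold ell at h2
    omega
  -- the basis of `L (2(g+1) (t)_∞)`
  set m := 2 * (g + 1)
  have hmem : ∀ z ∈ L ((m : ℤ) • (FFLib.poles t : Divisor k K)),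
      z ∈ Submodule.span k (Set.range (fam t y (m + 1) (g + 2))) := by
    intro z hz
    have hfam := fam_mem (t := t) hF hy (a := m + 1) (b := g + 2) (m := m) le_rfl (by omega)
    have hle : Submodule.span k (Set.range (fam t y (m + 1) (g + 2))) ≤
        L ((m : ℤ) • (FFLib.poles t : Divisor k K)) :=
      Submodule.span_le.2 (Set.range_subset_iff.2 hfam)
    have heq := Submodule.eq_of_le_of_finrank_le hle (by
      rw [finrank_span_eq_card (linearIndependent_fam ht hyt _ _)]
      have := hell m (by omega)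
      unfold ell at this
      simp only [Fintype.card_sum, Fintype.card_fin]
      omega)
    rw [heq]; exact hz
  have hy2 : y ^ 2 ∈ L ((m : ℤ) • (FFLib.poles t : Divisor k K)) := by
    have := FFLib.mul_mem_L hy hy
    rw [← add_smul, ← sq] at this
    convert this using 3
    push_cast [m]; ring
  obtain ⟨c, hc⟩ := (Submodule.mem_span_range_iff_exists_fun k).1 (hmem _ hy2)
  refine ⟨y, ∑ i : Fin (m + 1), monomial (i : ℕ) (c (.inl i)),
    -∑ j : Fin (g + 2), monomial (j : ℕ) (c (.inr j)), hyt, hy, ?_, ?_, ?_⟩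
  · rw [← hc, Fintype.sum_sum_type, map_neg, map_sum, map_sum, neg_mul, Finset.sum_mul, add_neg_eq_iff_eq_add]
    congr 1 <;> refine Finset.sum_congr rfl fun i _ => ?_ <;>
      simp [fam, aeval_monomial, Algebra.smul_def, mul_assoc]
  · exact natDegree_sum_le_of_forall_le _ _ fun i _ => (natDegree_monomial_le _).trans (by have := i.2; omega)
  · rw [natDegree_neg]
    exact natDegree_sum_le_of_forall_le _ _ fun i _ => (natDegree_monomial_le _).trans (by have := i.2; omega)

/-- The degree of the equation is at least `2g + 1`. -/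
theorem le_max_natDegree {g : ℕ} (hg : genus k K = g) (hg1 : 1 ≤ g) {t : K}
    (hd : Module.finrank k⟮t⟯ K = 2) {n : ℕ} {y : K} {P Q : k[X]} (hyt : y ∉ k⟮t⟯)
    (hy : y ∈ L ((n : ℤ) • (FFLib.poles t : Divisor k K)))
    (he : y ^ 2 + aeval t Q * y = aeval t P) : 2 * g + 1 ≤ max (2 * Q.natDegree) P.natDegree := by
  by_contra! hlt
  have hF := hK.1
  have ht := transcendental_of_finrank hK (x := t) (by omega)
  have hQd : Q.natDegree ≤ g := by omega
  have hPd : P.natDegree ≤ 2 * g := by omega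
  have hQ := val_aeval_le hF t Q hQd
  have hP := val_aeval_le hF t P hPd
  have hyg : y ∈ L ((g : ℤ) • (FFLib.poles t : Divisor k K)) := by
    intro R
    by_contra hR
    push Not at hR
    set b := exp (((g : ℤ) • (FFLib.poles t : Divisor k K)) R)
    have hb0 : (0 : WithZero (Multiplicative ℤ)) < b := exp_pos
    have hP' : R.1 (aeval t P) ≤ b * b := by
      refine (hP R).trans (le_of_eq ?_)
      rw [← exp_add]
      congr 1
      simp only [Finsupp.smul_apply, smul_eq_mul]
      push_cast; ring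
    have hQy : R.1 (aeval t Q * y) < R.1 (y ^ 2) := by
      rw [map_mul, map_pow, sq]
      exact mul_lt_mul_of_pos_right ((hQ R).trans_lt hR) (hb0.trans hR)
    have : R.1 (y ^ 2 + aeval t Q * y) = R.1 (y ^ 2) := R.1.map_add_eq_of_lt_left hQy
    rw [he] at this
    rw [this, map_pow, sq] at hP'
    exact absurd hP' (not_le.2 (mul_lt_mul'' hR hR zero_le' zero_le'))
  have hcard := card_le_ell hF ht hyt (n := g) (m := g) (a := g + 1) (b := 1) hyg le_rfl (by omega)
  have h2 : ((g : ℤ) • (FFLib.poles t : Divisor k K)).deg = g * 2 := by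
    rw [deg_nsmul, FFLib.deg_poles hF ht, hd]; norm_num
  have hell := FFLib.ell_of_deg_gt hK (D := (g : ℤ) • (FFLib.poles t : Divisor k K)) (by rw [h2, hg]; omega)
  rw [h2, hg] at hell
  omega

theorem adjoin_pair_eq_top {t y : K} (hd : Module.finrank k⟮t⟯ K = 2) (hyt : y ∉ k⟮t⟯) :
    IntermediateField.adjoin k ({t, y} : Set K) = ⊤ := by
  haveI : FiniteDimensional k⟮t⟯ K := Module.finite_of_finrank_pos (by omega)
  have htop : (k⟮t⟯)⟮y⟯ = ⊤ := by
    have hdvd : Module.finrank k⟮t⟯ (k⟮t⟯)⟮y⟯ ∣ 2 :=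
      Dvd.intro _ ((Module.finrank_mul_finrank k⟮t⟯ (k⟮t⟯)⟮y⟯ K).trans hd)
    rcases (Nat.dvd_prime Nat.prime_two).1 hdvd with h | h
    · rw [IntermediateField.finrank_eq_one_iff, adjoin_simple_eq_bot_iff, mem_bot] at h
      obtain ⟨b, rfl⟩ := h
      exact (hyt b.2).elim
    · exact eq_of_le_of_finrank_eq le_top (by rw [h, finrank_top', hd])
  have := congrArg (IntermediateField.restrictScalars k) htop
  rwa [adjoin_simple_adjoin_simple, restrictScalars_top] at this

end Groth.Agent.HyperP1
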