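import Groth.Agent.HyperP1.SeparableCurve
import Groth.Agent.HyperP1.FieldDeg2
import Groth.Agent.ZetaCurve.Pic
import Groth.Agent.FFLib.Numer
import Groth.Agent.CurveBC.FiniteDim

/-!
Hyperelliptic curves: modules of degree two with two sections, functions of degree two, double covers of the line.
-/

noncomputable section

set_option autoImplicit false
set_option linter.style.haveILetI false
set_option linter.unusedSectionVars false
set_option backward.isDefEq.respectTransparency false
set_option backward.isDefEq.respectTransparency.types false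

universe u

open CategoryTheory CategoryTheory.Limits AlgebraicGeometry TopologicalSpace
open scoped IntermediateField

namespace Groth.Agent.HyperP1

variable (k : Type u) [Field k] {X : Scheme.{u}} [X.Over (Spec (CommRingCat.of k))] [IsIntegral X]
  [IsProper (X ↘ Spec (CommRingCat.of k))] [Smooth (X ↘ Spec (CommRingCat.of k))]
  (hdim : topologicalKrullDim X = 1)
  (h0 : Module.finrank k (Coh.HH X (Coh.structureModule X) 0) = 1) (hg : 1 ≤ Curv2.genus k X)

attribute [local instance] ZetaCurve.ffAlg

include hdim h0 hg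

/-- A function of degree two gives a separable double cover of the line. -/
theorem exists_doubleCover_of_degree_two {x : X.functionField}
    (hd : Module.finrank k⟮x⟯ X.functionField = 2) :
    ∃ f : X ⟶ CohB1.ProjSpace 1 k, f ≫ CohB1.ProjSpace.toSpec 1 k = X ↘ Spec (CommRingCat.of k) ∧
      IsFinite f ∧ f.residueDegree (genericPoint X) = 2 ∧
      letI := (f.residueFieldMap (genericPoint X)).hom.toAlgebra
      Algebra.IsSeparable ((CohB1.ProjSpace 1 k).residueField (f (genericPoint X)))
        (X.residueField (genericPoint X)) :=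
  exists_doubleCover k hdim
    (transcendental_of_finrank (ZetaCurve.isFunctionField k X hdim h0) (x := x) (by omega)) hd
    (isSeparable_of_degree_two k hdim h0 hg x hd)

/-- A module of degree two with two sections gives a function of degree two. -/
theorem exists_degree_two_of_module {L : X.Modules} (hL : PicF.IsInvertible L)
    (hd : Curv2.deg k X L 1 = 2) (hh : 2 ≤ Module.finrank k (Coh.HH X L 0)) :
    ∃ x : X.functionField, Module.finrank k⟮x⟯ X.functionField = 2 := by
  have hK := ZetaCurve.isFunctionField k X hdim h0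
  obtain ⟨U₀, h₀, e, he⟩ := InvX.exists_frame hL (genericPoint X)
  rw [ZetaCurve.finrank_h0_eq_ell k hdim hL he h₀] at hh
  obtain ⟨z, hz0, -, hz⟩ := FFLib.exists_le_add_div hK.1 (D := ZetaCurve.divisor k hdim hL he h₀) (by omega)
  obtain ⟨-, x, hx, -⟩ := exists_x_of_ell hK (by rwa [ZetaCurve.genus_eq k X hdim h0]) hz
    (by rw [FFLib.Divisor.deg_add, FFLib.deg_div hK.1, ZetaCurve.deg_divisor k hdim h0 hL he h₀, hd]; norm_num)
    (by rwa [FFLib.ell_add_div hK.1 _ hz0])
  exact ⟨x, hx⟩

/-- A function of degree two gives a module of degree two with two sections. -/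
theorem exists_module_of_degree_two {x : X.functionField}
    (hd : Module.finrank k⟮x⟯ X.functionField = 2) :
    ∃ L : X.Modules, PicF.IsInvertible L ∧ Curv2.deg k X L 1 = 2 ∧
      Module.finrank k (Coh.HH X L 0) = 2 := by
  have hK := ZetaCurve.isFunctionField k X hdim h0
  have hg' : 1 ≤ FunFld.genus k X.functionField := by rwa [ZetaCurve.genus_eq k X hdim h0]
  have ht := transcendental_of_finrank hK (x := x) (by omega)
  set E : FunFld.Divisor k X.functionField := FFLib.poles x
  have hdeg : E.deg = 2 := by rw [FFLib.deg_poles hK.1 ht, hd]; norm_num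
  have hl : 2 ≤ FunFld.ell E := by
    haveI := FFLib.L_finite hK.1 E
    have h1 : (1 : X.functionField) ∈ FunFld.L E := fun P => by
      rw [map_one, ← WithZero.exp_zero]
      exact WithZero.exp_le_exp.2 (FFLib.poles_nonneg x P)
    have hli : LinearIndependent k ![(⟨1, h1⟩ : FunFld.L E), ⟨x, mem_L_poles hK.1 x⟩] := by
      rw [LinearIndependent.pair_iff]
      intro a b hab
      have h : a • (1 : X.functionField) + b • x = 0 := congrArg Subtype.val hab
      rw [Algebra.smul_def, Algebra.smul_def, mul_one] at h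
      have h2 : Polynomial.aeval x (Polynomial.C a + Polynomial.C b * Polynomial.X) = 0 := by simpa using h
      have h3 : Polynomial.C a + Polynomial.C b * Polynomial.X = 0 :=
        (transcendental_iff_injective.1 ht) (by rw [h2, map_zero])
      exact ⟨by simpa using congrArg (fun p : Polynomial k => p.coeff 0) h3,
        by simpa using congrArg (fun p : Polynomial k => p.coeff 1) h3⟩
    simpa [FunFld.ell] using hli.fintype_card_le_finrank
  have hE := (exists_x_of_ell hK hg' (FFLib.poles_nonneg x) hdeg hl).1
  obtain ⟨L, hL, hc⟩ := ZetaCurve.clsD_surjective k hdim hK.1 (QuotientAddGroup.mk E)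
  obtain ⟨U₀, h₀, e, he⟩ := InvX.exists_frame hL (genericPoint X)
  rw [ZetaCurve.clsD_eq k hdim hK.1 hL he h₀, QuotientAddGroup.eq_iff_sub_mem] at hc
  refine ⟨L, hL, ?_, ?_⟩
  · rw [← ZetaCurve.deg_divisor k hdim h0 hL he h₀, ZetaCurve.deg_eq_of_mem_prinDivs k hK.1 hc, hdeg]
  · rw [ZetaCurve.finrank_h0_eq_ell k hdim hL he h₀, FFLib.ell_congr hK.1 hc, hE]

omit hg in
/-- The place of a rational point. -/
theorem exists_place_deg_one (s : Spec (CommRingCat.of k) ⟶ X)
    (hs : s ≫ (X ↘ Spec (CommRingCat.of k)) = 𝟙 _) :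
    ∃ P : FunFld.Place k X.functionField, P.deg = 1 := by
  haveI : X.IsSeparated :=
    ⟨by rw [← terminal.comp_from (X ↘ Spec (CommRingCat.of k))]; infer_instance⟩
  haveI : Subsingleton (Spec (CommRingCat.of k)) := inferInstanceAs (Subsingleton (PrimeSpectrum k))
  haveI : IsClosedImmersion (s ≫ (X ↘ Spec (CommRingCat.of k))) := by rw [hs]; infer_instance
  haveI : IsClosedImmersion s := IsClosedImmersion.of_comp s (X ↘ Spec (CommRingCat.of k))
  let z := s (IsLocalRing.closedPoint k)
  have hz : IsClosed ({z} : Set X) := by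
    have : Set.range s = {z} := by
      refine Set.eq_singleton_iff_unique_mem.2 ⟨⟨_, rfl⟩, ?_⟩
      rintro _ ⟨p, rfl⟩
      exact congrArg s (Subsingleton.elim _ _)
    exact this ▸ s.isClosedEmbedding.isClosed_range
  refine ⟨ZetaCurve.pl k X hdim ⟨z, hz⟩, ?_⟩
  rw [ZetaCurve.deg_pl k X hdim ⟨z, hz⟩]
  letI := Curv2.resAlgebra k X z
  let φ := X.descResidueField (Scheme.stalkClosedPointTo s)
  have hφ : Spec.map φ ≫ X.fromSpecResidueField z = s :=
    Scheme.descResidueField_stalkClosedPointTo_fromSpecResidueField k X s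
  have hid : φ.hom.comp (algebraMap k (X.residueField z)) = RingHom.id k := by
    have h1 : CommRingCat.ofHom (algebraMap k (X.residueField z)) ≫ φ = 𝟙 _ := by
      apply Spec.map_injective
      rw [Spec.map_comp, Spec.map_id, ← hs]
      conv_rhs => rw [← hφ, Category.assoc, Scheme.fromSpecResidueField, Category.assoc]
      set p := X ↘ (Spec (CommRingCat.of k))
      have hp : p = X.toSpecΓ ≫ Spec.map ((Scheme.ΓSpecIso (CommRingCat.of k)).inv ≫ p.appTop) := by
        rw [Spec.map_comp, ← Scheme.toSpecΓ_naturality_assoc, toSpecΓ_SpecMap_ΓSpecIso_inv, Category.comp_id]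
      conv_rhs => rw [hp, Scheme.fromSpecStalk_toSpecΓ_assoc, ← Spec.map_comp, ← Spec.map_comp]
      rfl
    exact congrArg CommRingCat.Hom.hom h1
  refine Eq.trans ?_ (Module.finrank_self k)
  refine (LinearEquiv.finrank_eq (AlgEquiv.ofBijective (Algebra.ofId k (X.residueField z))
    ⟨(algebraMap k (X.residueField z)).injective, fun a => ⟨φ a, ?_⟩⟩).toLinearEquiv).symm
  exact φ.hom.injective congr($hid (φ a))

/-- An elliptic curve has a function of degree two. -/
theorem exists_degree_two_of_genus_one (hg1 : Curv2.genus k X = 1) (s : Spec (CommRingCat.of k) ⟶ X)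
    (hs : s ≫ (X ↘ Spec (CommRingCat.of k)) = 𝟙 _) :
    ∃ x : X.functionField, Module.finrank k⟮x⟯ X.functionField = 2 := by
  have hK := ZetaCurve.isFunctionField k X hdim h0
  have hg' : FunFld.genus k X.functionField = 1 := (ZetaCurve.genus_eq k X hdim h0).trans hg1
  obtain ⟨P, hP⟩ := exists_place_deg_one k hdim h0 s hs
  have h2 : FunFld.ell (Finsupp.single P ((2 : ℕ) : ℤ)) = 2 :=
    FFLib.ell_single_of_genus_one hK hg' hP one_le_two
  obtain ⟨-, x, hx, -⟩ := exists_x_of_ell hK (by omega) (E := Finsupp.single P ((2 : ℕ) : ℤ))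
    (Finsupp.single_nonneg.2 (by norm_num)) (by rw [FFLib.Divisor.deg_single, hP]; norm_num) h2.ge
  exact ⟨x, hx⟩

end Groth.Agent.HyperP1
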