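import Groth.Agent.HyperP1.DoubleCover
import Groth.Agent.S13458
import Groth.Agent.S5975
import Groth.Agent.S9370
import Groth.Agent.S14340

/-!
The genus formula of a separable finite morphism of smooth proper curves.
-/

noncomputable section

set_option autoImplicit false
set_option linter.style.haveILetI false
set_option linter.unusedSectionVars false
set_option backward.isDefEq.respectTransparency false
set_option backward.isDefEq.respectTransparency.types false

universe u

open CategoryTheory CategoryTheory.Limits AlgebraicGeometry TopologicalSpace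

namespace Groth.Agent.HyperP1

/-- A morphism of invertible modules with nonzero value has cokernel of finite support. -/
theorem support_cokernel_closed (k : Type u) [Field k] {X : Scheme.{u}} [X.Over (Spec (CommRingCat.of k))]
    [IsIntegral X] [IsProper (X ↘ Spec (CommRingCat.of k))] (hdim : topologicalKrullDim X = 1)
    {N L : X.Modules} (hN : PicF.IsInvertible N) (hL : PicF.IsInvertible L) (φ : N ⟶ L) (hφ : φ ≠ 0) :
    ∀ x ∈ CohB1.support (cokernel φ), IsClosed ({x} : Set X) := by
  haveI := CurveCohLib.isNoetherian_of_proper (k := k) (X := X)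
  have hNc := CurveDeg.isCoh_of_isInvertible hN
  have hLc := CurveDeg.isCoh_of_isInvertible hL
  have hQ : Coh.IsCoh (cokernel φ) := QCoh.isCoh_cokernel hNc.1 hLc φ
  intro x hx
  by_contra hxc
  obtain rfl := CurveCohLib.eq_genericPoint_of_not_isClosed hdim hxc
  obtain ⟨W, ⟨⟨w, hw⟩⟩, hW⟩ := CurveDeg.exists_open_surjective hN hL φ hφ
  have hwW : genericPoint X ∈ W := H23.RatExtend.genericPoint_mem W hw
  obtain ⟨_, ⟨V, hV, rfl⟩, hwV, hVW⟩ :=
    X.isBasis_affineOpens.exists_subset_of_mem_open hwW W.isOpen
  refine absurd hx ((QCoh.notMem_support_iff hQ.1 hV hwV).2 fun m => ?_)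
  obtain ⟨l, rfl⟩ := QCoh.app_surjective_of_epi hLc.1 hQ.1 (cokernel.π φ) hV m
  obtain ⟨n, rfl⟩ := hW V hVW l
  refine ⟨1, by rw [X.basicOpen_of_isUnit isUnit_one]; exact hwV, ?_⟩
  rw [one_smul]
  exact congrArg (fun ψ => Scheme.Modules.Hom.app ψ V n) (cokernel.condition φ)

/-- Separability of function fields read on residue fields. -/
theorem separable_residue {X Y : Scheme.{u}} [IsIntegral X] [IsIntegral Y] (f : X ⟶ Y)
    (e : f (genericPoint X) = genericPoint Y)
    (h : letI := ((Y.presheaf.stalkSpecializes (specializes_of_eq e) ≫ f.stalkMap (genericPoint X)).hom).toAlgebra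
      Algebra.IsSeparable Y.functionField X.functionField) :
    letI := (f.residueFieldMap (genericPoint X)).hom.toAlgebra
    Algebra.IsSeparable (Y.residueField (f (genericPoint X))) (X.residueField (genericPoint X)) := by
  letI := ((Y.presheaf.stalkSpecializes (specializes_of_eq e) ≫ f.stalkMap (genericPoint X)).hom).toAlgebra
  letI := (f.residueFieldMap (genericPoint X)).hom.toAlgebra
  let sp := Y.presheaf.stalkSpecializes (specializes_of_eq e)
  have hsp : Function.Bijective sp := by
    haveI : IsIso sp := by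
      refine ⟨Y.presheaf.stalkSpecializes (specializes_of_eq e.symm), ?_, ?_⟩ <;> simp [sp]
    exact ConcreteCategory.bijective_of_isIso sp
  have hK : IsField (Y.presheaf.stalk (f (genericPoint X))) := e ▸ CurveBundle.isField_stalk_generic
  have hres : Function.Bijective (Y.residue (f (genericPoint X))) := by
    letI := hK.toField
    exact ⟨RingHom.injective _, IsLocalRing.residue_surjective⟩
  let e₁ : Y.functionField ≃+* Y.residueField (f (genericPoint X)) :=
    (RingEquiv.ofBijective sp.hom hsp).trans (RingEquiv.ofBijective (Y.residue (f (genericPoint X))).hom hres)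
  exact Algebra.IsSeparable.of_equiv_equiv e₁ (resEquiv X)
    (RingHom.ext fun a => congrArg (fun ψ => ψ (sp a)) (Scheme.residue_residueFieldMap f (genericPoint X)))

variable (k : Type u) [Field k] {X Y : Scheme.{u}} [X.Over (Spec (CommRingCat.of k))]
  [Y.Over (Spec (CommRingCat.of k))] [IsIntegral X] [IsIntegral Y]
  [IsProper (X ↘ Spec (CommRingCat.of k))] [IsProper (Y ↘ Spec (CommRingCat.of k))]
  [Smooth (X ↘ Spec (CommRingCat.of k))] [Smooth (Y ↘ Spec (CommRingCat.of k))]
  (f : X ⟶ Y) [IsFinite f] (hf : f ≫ (Y ↘ Spec (CommRingCat.of k)) = X ↘ Spec (CommRingCat.of k))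
  (e : f (genericPoint X) = genericPoint Y)

omit [X.Over (Spec (CommRingCat.of k))] [IsProper (X ↘ Spec (CommRingCat.of k))]
  [Smooth (X ↘ Spec (CommRingCat.of k))] in
include e in
theorem surjective_cover : Surjective f := by
  refine ⟨fun y => ?_⟩
  have hcl := f.isClosedMap _ (isClosed_univ (X := X))
  exact ((genericPoint_specializes y).mem_closed hcl ⟨genericPoint X, trivial, e⟩).imp fun z hz => hz.2

include hf e in
theorem coverDeg_eq_residueDegree (hdY : topologicalKrullDim Y = 1) :
    Flat f ∧ CurveBC.coverDeg f = f.residueDegree (genericPoint X) := by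
  haveI hfl : Flat f := flat_of_valuationRing f e (valuationRing_stalk k hdY)
  refine ⟨hfl, ?_⟩
  haveI : IsLocallyNoetherian Y := LocallyOfFiniteType.isLocallyNoetherian (Y ↘ Spec (CommRingCat.of k))
  let A : Over (Spec (CommRingCat.of k)) := Over.mk (X ↘ Spec (CommRingCat.of k))
  let B : Over (Spec (CommRingCat.of k)) := Over.mk (Y ↘ Spec (CommRingCat.of k))
  let φ : A ⟶ B := Over.homMk f hf
  haveI : IsIntegral A.left := ‹IsIntegral X›
  haveI : IsIntegral B.left := ‹IsIntegral Y›
  haveI : IsFinite φ.left := ‹IsFinite f›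
  haveI : Surjective φ.left := surjective_cover f e
  haveI : Flat φ.left := hfl
  haveI : LocallyOfFinitePresentation φ.left := inferInstanceAs (LocallyOfFinitePresentation f)
  exact S14340.coverDeg_eq f fun y => (AVDegPoly.residueDegree_generic φ y).symm

include hf e in
/-- `2g_X - 2 = n (2g_Y - 2) + h⁰(Ω_{X/Y})`. -/
theorem genus_formula (hdX : topologicalKrullDim X = 1) (hdY : topologicalKrullDim Y = 1)
    (hX0 : Module.finrank k (Coh.HH X (Coh.structureModule X) 0) = 1)
    (hY0 : Module.finrank k (Coh.HH Y (Coh.structureModule Y) 0) = 1)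
    (hsep : letI := (f.residueFieldMap (genericPoint X)).hom.toAlgebra
      Algebra.IsSeparable (Y.residueField (f (genericPoint X))) (X.residueField (genericPoint X))) :
    2 * (Curv2.genus k X : ℤ) - 2 =
      (f.residueDegree (genericPoint X) : ℤ) * (2 * (Curv2.genus k Y : ℤ) - 2) +
        (Module.finrank k (Coh.HH X (Omega.sheaf f) 0) : ℤ) := by
  obtain ⟨hflat, hdeg⟩ := coverDeg_eq_residueDegree k f hf e hdY
  haveI := hflat
  haveI := CurveCohLib.isNoetherian_of_proper (k := k) (X := X)
  haveI := CurveCohLib.isNoetherian_of_proper (k := k) (X := Y)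
  have hωY := CurveBC.isInvertible_omega k Y hdY hY0
  have hωX := CurveBC.isInvertible_omega k X hdX hX0
  obtain ⟨c, hc, -⟩ := S9370.result (Y ↘ Spec (CommRingCat.of k)) (X ↘ Spec (CommRingCat.of k)) f (𝟙 _)
    (by rw [Category.comp_id]; exact hf.symm) _ _ (OmegaUniv.isUniversal_dOmega _) _ _
    (OmegaUniv.isUniversal_dOmega _)
  have hN := PicClLib.isInvertible_pullback f hωY
  haveI hmono : Mono c := S13458.result k (X ↘ Spec (CommRingCat.of k)) (Y ↘ Spec (CommRingCat.of k)) f hf
    (hdX.trans hdY.symm) ((surjective_cover f e).surj.denseRange) hsep _ _ (OmegaUniv.isUniversal_dOmega _) _ _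
    (OmegaUniv.isUniversal_dOmega _) c hc
  -- the cokernel is the sheaf of relative differentials
  obtain ⟨dX, hdX', hc'⟩ : ∃ dX : OmegaSh.Der (f ≫ (Y ↘ Spec (CommRingCat.of k)))
      (Omega.sheaf (X ↘ Spec (CommRingCat.of k))), OmegaSh.IsUniversal dX ∧
      OmegaSh.IsDiffCompat f (OmegaSh.dOmega (Y ↘ Spec (CommRingCat.of k))) dX c := by
    rw [hf]; exact ⟨_, OmegaUniv.isUniversal_dOmega _, hc⟩
  obtain ⟨c₂, hc₂, -⟩ := S9370.result (f ≫ (Y ↘ Spec (CommRingCat.of k))) f (𝟙 X)
    (Y ↘ Spec (CommRingCat.of k)) (by rw [Category.id_comp]) _ dX hdX' _ _ (OmegaUniv.isUniversal_dOmega f)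
  obtain ⟨hepi, hexact⟩ := S5975.result f (Y ↘ Spec (CommRingCat.of k)) _ _
    (OmegaUniv.isUniversal_dOmega _) _ dX hdX' _ _ (OmegaUniv.isUniversal_dOmega f) c hc' c₂ hc₂
  let q := (Scheme.Modules.pullbackId X).inv.app (Omega.sheaf (X ↘ Spec (CommRingCat.of k))) ≫ c₂
  haveI : Epi q := epi_comp _ _
  have hcq : c ≫ q = 0 := by
    have harr : Subobject.ofLE _ _ hexact.le ≫ (kernelSubobject q).arrow = (imageSubobject c).arrow :=
      Subobject.ofLE_arrow _
    rw [← imageSubobject_arrow_comp c, ← harr, Category.assoc, Category.assoc, kernelSubobject_arrow_comp,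
      comp_zero, comp_zero]
  let S : ShortComplex X.Modules := ShortComplex.mk c q hcq
  have hSe : S.Exact := (ShortComplex.exact_iff_image_eq_kernel S).2 hexact
  have hS : S.ShortExact := { exact := hSe, mono_f := hmono, epi_g := ‹Epi q› }
  have hne : c ≠ 0 := by
    intro h0
    subst h0
    have hz : IsZero ((Scheme.Modules.pullback f).obj (Omega.sheaf (Y ↘ Spec (CommRingCat.of k)))) :=
      IsZero.of_mono_zero _ (Omega.sheaf (X ↘ Spec (CommRingCat.of k)))
    exact CurveEnd.not_isZero _ 1 one_pos (InvEnd.isFinLocFreeOfRank_one hN) hz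
  have hNc := CurveDeg.isCoh_of_isInvertible hN
  have hLc := CurveDeg.isCoh_of_isInvertible hωX
  let i : cokernel c ≅ Omega.sheaf f :=
    IsColimit.coconePointUniqueUpToIso (cokernelIsCokernel c) hS.gIsCokernel
  have hQ : Coh.IsCoh (cokernel c) := QCoh.isCoh_cokernel hNc.1 hLc c
  have hadd : Curv2.euler k X (Omega.sheaf (X ↘ Spec (CommRingCat.of k))) =
      Curv2.euler k X ((Scheme.Modules.pullback f).obj (Omega.sheaf (Y ↘ Spec (CommRingCat.of k)))) +
        Curv2.euler k X (cokernel c) :=
    CurveCohLib.euler_additive (k := k)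
      (S := ShortComplex.mk c (cokernel.π c) (cokernel.condition c))
      { exact := ShortComplex.exact_of_g_is_cokernel _ (cokernelIsCokernel c) } hNc hLc hQ
  rw [CurveCohLib.euler_eq_finrank_zero (k := k) hQ (support_cokernel_closed k hdX hN hωX c hne),
    (CurveCohLib.hhEquiv (k := k) i 0).finrank_eq] at hadd
  have h1 := CurveBC.deg_pullback k f hdY hf hωY
  rw [(CurveBC.canonical_invariants k Y hdY hY0).2, hdeg] at h1
  have h2 := (CurveBC.canonical_invariants k X hdX hX0).2
  unfold Curv2.deg at h1 h2
  push_cast at h1 h2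
  linarith

end Groth.Agent.HyperP1
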