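import Groth.Agent.H23.PnChart
import Groth.Prelude.Def_CurvBase
import Mathlib.AlgebraicGeometry.ResidueField
import Mathlib.AlgebraicGeometry.FunctionField
import Mathlib.FieldTheory.Separable
import Mathlib.FieldTheory.IntermediateField.Adjoin.Basic

/-!
The residue field map of a morphism which is known on a chart, and maps to the projective line at the
generic point of an integral scheme: `κ(f η) ⊆ K(X)` is `k(x)` where `x` is the pulled back coordinate.
-/

noncomputable section

set_option autoImplicit false
set_option linter.style.haveILetI false
set_option backward.isDefEq.respectTransparency false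
set_option backward.isDefEq.respectTransparency.types false

universe u

open CategoryTheory CategoryTheory.Limits AlgebraicGeometry
open scoped IntermediateField
open Groth.Agent.ZetaLib

namespace Groth.Agent.HyperP1

/-- If `f` at `x` factors through an affine open by `a`, the image of `κ(f x)` is generated by the image of `a`. -/
theorem fieldRange_residueFieldMap {X Y : Scheme.{u}} (f : X ⟶ Y) (x : X) {R : CommRingCat.{u}}
    (j : Spec R ⟶ Y) [IsOpenImmersion j] (a : R ⟶ X.residueField x)
    (h : X.fromSpecResidueField x ≫ f = Spec.map a ≫ j) :
    (f.residueFieldMap x).hom.fieldRange = Subfield.closure (Set.range a.hom) := by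
  apply le_antisymm
  · let F := Subfield.closure (Set.range a.hom)
    let a' : R ⟶ CommRingCat.of F :=
      CommRingCat.ofHom (a.hom.codRestrict F fun r => Subfield.subset_closure ⟨r, rfl⟩)
    let ι : CommRingCat.of F ⟶ CommRingCat.of (X.residueField x) := CommRingCat.ofHom F.subtype
    let g := Spec.map a' ≫ j
    let s0 := Scheme.SpecToEquivOfField F Y g
    let s2 : Σ y, Y.residueField y ⟶ CommRingCat.of (X.residueField x) := ⟨s0.1, s0.2 ≫ ι⟩
    have hs : (⟨f x, f.residueFieldMap x⟩ : Σ y, Y.residueField y ⟶ CommRingCat.of (X.residueField x)) = s2 := by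
      apply (Scheme.SpecToEquivOfField (X.residueField x) Y).symm.injective
      show Spec.map (f.residueFieldMap x) ≫ Y.fromSpecResidueField (f x) =
        Spec.map (s0.2 ≫ ι) ≫ Y.fromSpecResidueField s0.1
      rw [Scheme.Hom.SpecMap_residueFieldMap_fromSpecResidueField, h, Spec.map_comp, Category.assoc,
        show Spec.map s0.2 ≫ Y.fromSpecResidueField s0.1 = g from
          (Scheme.SpecToEquivOfField F Y).symm_apply_apply g]
      rw [show a = a' ≫ ι from rfl, Spec.map_comp, Category.assoc]
    have key : ∀ s : Σ y, Y.residueField y ⟶ CommRingCat.of (X.residueField x), s = s2 →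
        ∀ z, s.2.hom z ∈ F := by
      rintro _ rfl z
      exact (s0.2.hom z).2
    rintro _ ⟨z, rfl⟩
    exact key _ hs z
  · rw [Subfield.closure_le]
    have hsub : Set.range (Y.fromSpecResidueField (f x)) ⊆ Set.range j := by
      rw [Scheme.range_fromSpecResidueField]
      rintro _ rfl
      refine ⟨Spec.map a (IsLocalRing.closedPoint (X.residueField x)), ?_⟩
      rw [← Scheme.Hom.comp_apply, ← h, Scheme.Hom.comp_apply, Scheme.fromSpecResidueField_apply]
    let c := Spec.preimage (IsOpenImmersion.lift j _ hsub)
    have ha : a = c ≫ f.residueFieldMap x := Spec.map_injective (by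
      rw [← cancel_mono j, Spec.map_comp, Category.assoc, Spec.map_preimage, IsOpenImmersion.lift_fac,
        Scheme.Hom.SpecMap_residueFieldMap_fromSpecResidueField, h])
    rintro _ ⟨r, rfl⟩
    exact ⟨c.hom r, (congr($ha r)).symm⟩

variable (X : Scheme.{u}) [IsIntegral X]

/-- The function field is the residue field of the generic point. -/
def resEquiv : X.functionField ≃+* X.residueField (genericPoint X) :=
  RingEquiv.ofBijective (X.residue (genericPoint X)).hom
    ⟨RingHom.injective (R := X.functionField) (X.residue (genericPoint X)).hom,
      X.residue_surjective _⟩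

variable {X}

/-- Residue degree and separability at the generic point, read in the function field. -/
theorem residue_generic {Y : Scheme.{u}} (f : X ⟶ Y) {k : Type u} [Field k] [Algebra k X.functionField]
    {R : CommRingCat.{u}} (j : Spec R ⟶ Y) [IsOpenImmersion j] (a : R ⟶ X.functionField)
    (h : X.fromSpecStalk (genericPoint X) ≫ f = Spec.map a ≫ j)
    (L : IntermediateField k X.functionField) (hL : L.toSubfield = Subfield.closure (Set.range a.hom)) :
    f.residueDegree (genericPoint X) = Module.finrank L X.functionField ∧
      ((letI := (f.residueFieldMap (genericPoint X)).hom.toAlgebra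
        Algebra.IsSeparable (Y.residueField (f (genericPoint X))) (X.residueField (genericPoint X))) ↔
        Algebra.IsSeparable L X.functionField) := by
  set η := genericPoint X
  let e := resEquiv X
  have h' : X.fromSpecResidueField η ≫ f = Spec.map (a ≫ X.residue η) ≫ j := by
    rw [Scheme.fromSpecResidueField, Category.assoc, h, Spec.map_comp, Category.assoc]
  have hr := fieldRange_residueFieldMap f η j _ h'
  let r : Y.residueField (f η) →+* X.functionField := e.symm.toRingHom.comp (f.residueFieldMap η).hom
  have hrange : r.fieldRange = L.toSubfield := by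
    rw [hL]
    refine (RingHom.map_fieldRange e.symm.toRingHom (f.residueFieldMap η).hom).symm.trans ?_
    rw [hr, RingHom.map_field_closure, ← Set.range_comp]
    congr 2
    funext z
    exact e.symm_apply_apply _
  have hmem : ∀ z, r z ∈ L := fun z => show r z ∈ L.toSubfield from hrange ▸ ⟨z, rfl⟩
  let e₁ : Y.residueField (f η) ≃+* L :=
    RingEquiv.ofBijective (r.codRestrict L hmem) ⟨RingHom.injective _, fun l => by
      obtain ⟨z, hz⟩ : (l : X.functionField) ∈ r.fieldRange := hrange.symm ▸ l.2
      exact ⟨z, Subtype.ext hz⟩⟩
  letI := (f.residueFieldMap η).hom.toAlgebra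
  have he : (algebraMap L X.functionField).comp e₁.toRingHom =
      e.symm.toRingHom.comp (algebraMap (Y.residueField (f η)) (X.residueField η)) := rfl
  refine ⟨Algebra.finrank_eq_of_equiv_equiv e₁ e.symm he, fun _ => ?_, fun _ => ?_⟩
  · exact Algebra.IsSeparable.of_equiv_equiv e₁ e.symm he
  · refine Algebra.IsSeparable.of_equiv_equiv e₁.symm e ?_
    refine RingHom.ext fun l => ?_
    have := congr($he (e₁.symm l))
    simp only [RingHom.comp_apply, RingEquiv.toRingHom_eq_coe, RingHom.coe_coe,
      RingEquiv.apply_symm_apply] at this ⊢
    rw [this, RingEquiv.apply_symm_apply]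

end Groth.Agent.HyperP1
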